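import Mathlib
import Groth.Prelude.Def_EtGlue

/-!
# Glueing pairs: torsion, glueable modules, finiteness
-/

noncomputable section

namespace Groth.Agent.EtGlue7

universe u v

open TensorProduct

variable {R R' : Type u} [CommRing R] [CommRing R'] [Algebra R R'] {f : R}

variable (hq : EtGlue.QuotPowBijective R R' f)

include hq

theorem exists_sub_mem (n : ℕ) (x : R') : ∃ (a : R) (b : R'), x = algebraMap R R' a + algebraMap R R' f ^ n * b := by
  rcases Nat.eq_zero_or_pos n with rfl | hn
  · exact ⟨0, x, by simp⟩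
  obtain ⟨c, hc⟩ := (hq n hn).2 (Ideal.Quotient.mk _ x)
  obtain ⟨a, rfl⟩ := Ideal.Quotient.mk_surjective c
  rw [Ideal.quotientMap_mk, eq_comm, Ideal.Quotient.eq, Ideal.map_span, Set.image_singleton, map_pow] at hc
  obtain ⟨b, hb⟩ := Ideal.mem_span_singleton'.mp hc
  exact ⟨a, b, by rw [mul_comm _ b, hb]; ring⟩

theorem mem_span_of_map (n : ℕ) (a : R) (h : ∃ b : R', algebraMap R R' a = algebraMap R R' f ^ n * b) :
    ∃ c, a = f ^ n * c := by
  rcases Nat.eq_zero_or_pos n with rfl | hn
  · exact ⟨a, by simp⟩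
  obtain ⟨b, hb⟩ := h
  have : Ideal.Quotient.mk (Ideal.span {f ^ n}) a = 0 := (hq n hn).1 (by
    rw [Ideal.quotientMap_mk, map_zero, Ideal.Quotient.eq_zero_iff_mem, Ideal.map_span, Set.image_singleton, map_pow]
    exact Ideal.mem_span_singleton'.mpr ⟨b, by rw [mul_comm, hb]⟩)
  obtain ⟨c, hc⟩ := Ideal.mem_span_singleton'.mp (Ideal.Quotient.eq_zero_iff_mem.mp this)
  exact ⟨c, by rw [← hc, mul_comm]⟩

variable (M : Type u) [AddCommGroup M] [Module R M]

theorem exists_eq_one_tmul_add (n : ℕ) (x : R' ⊗[R] M) :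
    ∃ (m : M) (y : R' ⊗[R] M), x = (1 : R') ⊗ₜ[R] m + f ^ n • y := by
  induction x with
  | zero => exact ⟨0, 0, by simp⟩
  | tmul r m =>
    obtain ⟨a, b, rfl⟩ := exists_sub_mem hq n r
    refine ⟨a • m, b ⊗ₜ m, ?_⟩
    rw [add_tmul, ← smul_tmul, Algebra.algebraMap_eq_smul_one, TensorProduct.smul_tmul' (f ^ n), Algebra.smul_def (f ^ n) b,
      map_pow]
  | add x y hx hy =>
    obtain ⟨m, z, rfl⟩ := hx
    obtain ⟨m', z', rfl⟩ := hy
    exact ⟨m + m', z + z', by rw [tmul_add, smul_add]; abel⟩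

theorem mem_smul_of_one_tmul {n : ℕ} {m : M} {y : R' ⊗[R] M} (h : (1 : R') ⊗ₜ[R] m = f ^ n • y) :
    ∃ m₀ : M, m = f ^ n • m₀ := by
  rcases Nat.eq_zero_or_pos n with rfl | hn
  · exact ⟨m, by simp⟩
  let N : Submodule R M := Ideal.span {f ^ n} • ⊤
  -- the action of `R'` on `M ⧸ f ^ n M`
  let e := RingEquiv.ofBijective _ (hq n hn)
  let ρ : R' →ₐ[R] R ⧸ Ideal.span {f ^ n} :=
    AlgHom.mk (e.symm.toRingHom.comp (Ideal.Quotient.mk _)) (fun a => (RingEquiv.symm_apply_eq e).mpr rfl)
  let Θ : R' ⊗[R] M →ₗ[R] M ⧸ N :=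
    (quotTensorEquivQuotSMul M (Ideal.span {f ^ n})).toLinearMap ∘ₗ LinearMap.rTensor M ρ.toLinearMap
  have h1 : Θ ((1 : R') ⊗ₜ[R] m) = Submodule.Quotient.mk m := by
    show quotTensorEquivQuotSMul M (Ideal.span {f ^ n}) (ρ 1 ⊗ₜ[R] m) = _
    rw [map_one, ← map_one (Ideal.Quotient.mk (Ideal.span {f ^ n})), quotTensorEquivQuotSMul_mk_tmul, one_smul]
  have h2 : Θ (f ^ n • y) = 0 := by
    rw [map_smul]
    obtain ⟨z, hz⟩ := Submodule.Quotient.mk_surjective N (Θ y)
    rw [← hz, ← Submodule.Quotient.mk_smul]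
    exact (Submodule.Quotient.mk_eq_zero N).mpr
      (Submodule.smul_mem_smul (Ideal.mem_span_singleton_self _) Submodule.mem_top)
  rw [h, h2, eq_comm, Submodule.Quotient.mk_eq_zero] at h1
  simp only [N, Submodule.ideal_span_singleton_smul] at h1
  obtain ⟨m₀, -, hm₀⟩ := (Submodule.mem_smul_pointwise_iff_exists _ _ _).mp h1
  exact ⟨m₀, hm₀.symm⟩

theorem smul_unique {m : M} {n n' : ℕ} (hn : f ^ n • m = 0) (hn' : f ^ n' • m = 0) {a a' : R} {r b b' : R'}
    (h : r = algebraMap R R' a + algebraMap R R' f ^ n * b)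
    (h' : r = algebraMap R R' a' + algebraMap R R' f ^ n' * b') : a • m = a' • m := by
  wlog hle : n ≤ n' generalizing n n' a a' b b'
  · exact (this hn' hn h' h (le_of_not_ge hle)).symm
  obtain ⟨k, rfl⟩ := Nat.exists_eq_add_of_le hle
  have hb : algebraMap R R' (a - a') = algebraMap R R' f ^ n * (algebraMap R R' f ^ k * b' - b) := by
    rw [map_sub]; linear_combination h' - h
  obtain ⟨c, hc⟩ := mem_span_of_map hq n _ ⟨_, hb⟩
  rw [← sub_eq_zero, ← sub_smul, hc, mul_comm, mul_smul, hn, smul_zero]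

theorem eq_zero_of_torsion (hM : ∀ m : M, ∃ n : ℕ, f ^ n • m = 0) {q : M} (h : (1 : R') ⊗ₜ[R] q = 0) :
    q = 0 := by
  choose N hN using hM
  choose a b hab using fun r m => exists_sub_mem hq (N m) r
  let σ : R' → M → M := fun r m => a r m • m
  have hσ : ∀ r m n a' b', f ^ n • m = 0 → r = algebraMap R R' a' + algebraMap R R' f ^ n * b' → σ r m = a' • m :=
    fun r m n a' b' hn h' => smul_unique hq M (hN m) hn (hab r m) h'
  let L : R' →ₗ[R] M →ₗ[R] M := LinearMap.mk₂ R σ
    (fun r r' m => by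
      rw [hσ (r + r') m (N m) (a r m + a r' m) (b r m + b r' m) (hN m) (by
        rw [map_add]; linear_combination hab r m + hab r' m), add_smul])
    (fun c r m => by
      rw [hσ (c • r) m (N m) (c * a r m) (algebraMap R R' c * b r m) (hN m) (by
        rw [Algebra.smul_def, map_mul]; linear_combination algebraMap R R' c * hab r m), mul_smul])
    (fun r m m' => by
      obtain ⟨a', b', h'⟩ := exists_sub_mem hq (N m + N m') r
      have h1 : f ^ (N m + N m') • m = 0 := by rw [add_comm, pow_add, mul_smul, hN, smul_zero]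
      have h2 : f ^ (N m + N m') • m' = 0 := by rw [pow_add, mul_smul, hN, smul_zero]
      rw [hσ r m _ a' b' h1 h', hσ r m' _ a' b' h2 h',
        hσ r (m + m') _ a' b' (by rw [smul_add, h1, h2, add_zero]) h', smul_add])
    (fun c r m => by
      rw [hσ r (c • m) (N m) (a r m) (b r m) (by rw [smul_comm, hN, smul_zero]) (hab r m), smul_comm])
  have := congrArg (TensorProduct.lift L) h
  rw [TensorProduct.lift.tmul, map_zero] at this
  rw [← this]
  show q = σ 1 q
  rw [hσ 1 q (N q) 1 0 (hN q) (by simp), one_smul]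

/-- A torsion module killed by base change to `R'` vanishes. -/
theorem subsingleton_of_torsion [Subsingleton (R' ⊗[R] M)] (hM : ∀ m : M, ∃ n : ℕ, f ^ n • m = 0) :
    Subsingleton M :=
  subsingleton_of_forall_eq 0 fun _ => eq_zero_of_torsion hq M hM (Subsingleton.elim _ _)

omit hq in
theorem mk_eq_zero_iff {m : M} :
    LocalizedModule.mkLinearMap (Submonoid.powers f) M m = 0 ↔ ∃ n : ℕ, f ^ n • m = 0 := by
  rw [IsLocalizedModule.eq_zero_iff (Submonoid.powers f)]
  constructor
  · rintro ⟨⟨_, n, rfl⟩, h⟩; exact ⟨n, h⟩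
  · rintro ⟨n, h⟩; exact ⟨⟨_, n, rfl⟩, h⟩

omit hq in
theorem exists_smul_eq_mk (y : LocalizedModule (Submonoid.powers f) M) :
    ∃ (n : ℕ) (m : M), f ^ n • y = LocalizedModule.mkLinearMap (Submonoid.powers f) M m := by
  obtain ⟨⟨m, ⟨_, n, rfl⟩⟩, h⟩ := IsLocalizedModule.surj (Submonoid.powers f) (LocalizedModule.mkLinearMap (Submonoid.powers f) M) y
  exact ⟨n, m, h⟩

omit hq in
theorem smul_injective_localized {n : ℕ} {x y : LocalizedModule (Submonoid.powers f) M}
    (h : f ^ n • x = f ^ n • y) : x = y := by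
  have := IsLocalizedModule.smul_injective (LocalizedModule.mkLinearMap (Submonoid.powers f) M)
    (⟨f ^ n, n, rfl⟩ : Submonoid.powers f)
  exact this h

omit hq in
theorem tensorOfLoc_mk (m : M) : EtGlue.tensorOfLoc R R' f M (LocalizedModule.mkLinearMap (Submonoid.powers f) M m) =
    EtGlue.locOfTensor R R' f M ((1 : R') ⊗ₜ[R] m) :=
  IsLocalizedModule.map_apply _ _ _ _ _

theorem isGlueable_of_torsion (h1 : ∀ m : M, (∃ n : ℕ, f ^ n • m = 0) → (1 : R') ⊗ₜ[R] m = 0 → m = 0)
    (h2 : ∀ x : R' ⊗[R] M, (∃ n : ℕ, f ^ n • x = 0) → ∃ m : M, (∃ n : ℕ, f ^ n • m = 0) ∧ (1 : R') ⊗ₜ[R] m = x) :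
    EtGlue.IsGlueable R R' f M := by
  refine ⟨fun m m' h => ?_, fun x y hxy => ?_⟩
  · simp only [Prod.mk.injEq] at h
    refine sub_eq_zero.mp (h1 _ ((mk_eq_zero_iff (f := f) M).mp ?_) ?_)
    · rw [map_sub, h.2, sub_self]
    · rw [tmul_sub, h.1, sub_self]
  · obtain ⟨n, a, ha⟩ := exists_smul_eq_mk (f := f) M y
    have h0 : EtGlue.locOfTensor R R' f M (f ^ n • x - (1 : R') ⊗ₜ[R] a) = 0 := by
      rw [map_sub, map_smul, hxy, ← map_smul, ha, tensorOfLoc_mk, sub_self]
    obtain ⟨t, ⟨ht, ht'⟩⟩ := h2 _ ((mk_eq_zero_iff (f := f) _).mp h0)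
    have h' : (1 : R') ⊗ₜ[R] (a + t) = f ^ n • x := by rw [tmul_add, ht', add_sub_cancel]
    obtain ⟨c, hc⟩ := mem_smul_of_one_tmul hq M h'
    have hz : f ^ n • (x - (1 : R') ⊗ₜ[R] c) = 0 := by
      rw [smul_sub, ← tmul_smul, ← hc, h', sub_self]
    obtain ⟨s, ⟨hs, hs'⟩⟩ := h2 _ ⟨n, hz⟩
    refine ⟨c + s, by rw [tmul_add, hs', add_sub_cancel], smul_injective_localized (f := f) M (n := n) ?_⟩
    rw [ha, map_add, (mk_eq_zero_iff (f := f) M).mpr hs, add_zero, ← map_smul, ← hc, map_add,
      (mk_eq_zero_iff (f := f) M).mpr ht, add_zero]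

omit hq in
theorem torsion_of_isGlueable (h : EtGlue.IsGlueable R R' f M) :
    (∀ m : M, (∃ n : ℕ, f ^ n • m = 0) → (1 : R') ⊗ₜ[R] m = 0 → m = 0) ∧
    (∀ x : R' ⊗[R] M, (∃ n : ℕ, f ^ n • x = 0) → ∃ m : M, (∃ n : ℕ, f ^ n • m = 0) ∧ (1 : R') ⊗ₜ[R] m = x) := by
  refine ⟨fun m hm hm' => h.1 (a₁ := m) (a₂ := 0) (Prod.ext (hm'.trans (tmul_zero _ _).symm) ?_), fun x hx => ?_⟩
  · show LocalizedModule.mkLinearMap (Submonoid.powers f) M m = LocalizedModule.mkLinearMap (Submonoid.powers f) M 0
    rw [(mk_eq_zero_iff (f := f) M).mpr hm, map_zero]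
  · obtain ⟨m, hm, hm'⟩ := h.2 x 0 (by rw [map_zero]; exact (mk_eq_zero_iff (f := f) _).mpr hx)
    exact ⟨m, (mk_eq_zero_iff (f := f) M).mp hm', hm⟩

theorem isGlueingPair_iff : EtGlue.IsGlueingPair R R' f ↔
      ((∀ x : R, (∃ n : ℕ, f ^ n * x = 0) → algebraMap R R' x = 0 → x = 0) ∧
       (∀ x' : R', (∃ n : ℕ, algebraMap R R' f ^ n * x' = 0) →
          ∃ x : R, (∃ n : ℕ, f ^ n * x = 0) ∧ algebraMap R R' x = x')) := by
  have hz : ∀ x : R, algebraMap R (Localization.Away f) x = 0 ↔ ∃ n : ℕ, f ^ n * x = 0 := fun x => by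
    rw [IsLocalization.map_eq_zero_iff (Submonoid.powers f)]
    exact ⟨fun ⟨⟨_, n, rfl⟩, h⟩ => ⟨n, h⟩, fun ⟨n, h⟩ => ⟨⟨_, n, rfl⟩, h⟩⟩
  have hz' : ∀ x : R', algebraMap R' (Localization.Away (algebraMap R R' f)) x = 0 ↔
      ∃ n : ℕ, algebraMap R R' f ^ n * x = 0 := fun x => by
    rw [IsLocalization.map_eq_zero_iff (Submonoid.powers (algebraMap R R' f))]
    exact ⟨fun ⟨⟨_, n, rfl⟩, h⟩ => ⟨n, h⟩, fun ⟨n, h⟩ => ⟨⟨_, n, rfl⟩, h⟩⟩
  have haw : ∀ a : R, Localization.awayMap (algebraMap R R') f (algebraMap R (Localization.Away f) a) =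
      algebraMap R' (Localization.Away (algebraMap R R' f)) (algebraMap R R' a) := fun a =>
    IsLocalization.map_eq _ a
  constructor
  · rintro ⟨-, hinj, hex, -⟩
    refine ⟨fun x hx hx' => hinj (a₁ := x) (a₂ := 0) (Prod.ext (hx'.trans (map_zero _).symm)
      (((hz x).mpr hx).trans (map_zero _).symm)), fun x' hx' => ?_⟩
    obtain ⟨r, hr, hr'⟩ := hex x' 0 (by rw [map_zero]; exact (hz' x').mpr hx')
    exact ⟨r, (hz r).mp hr', hr⟩
  · rintro ⟨h1, h2⟩
    refine ⟨hq, fun x y h => ?_, fun x y hxy => ?_, fun z => ?_⟩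
    · simp only [Prod.mk.injEq] at h
      exact sub_eq_zero.mp (h1 _ ((hz _).mp (by rw [map_sub, h.2, sub_self])) (by rw [map_sub, h.1, sub_self]))
    · obtain ⟨a, ⟨_, n, rfl⟩, rfl⟩ := IsLocalization.exists_mk'_eq (Submonoid.powers f) y
      have hspec : algebraMap R (Localization.Away f) (f ^ n) *
          IsLocalization.mk' (Localization.Away f) a (⟨f ^ n, n, rfl⟩ : Submonoid.powers f) =
          algebraMap R (Localization.Away f) a :=
        IsLocalization.mk'_spec' _ a (⟨f ^ n, n, rfl⟩ : Submonoid.powers f)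
      have hu : IsUnit (algebraMap R (Localization.Away f) (f ^ n)) :=
        IsLocalization.map_units _ (⟨f ^ n, n, rfl⟩ : Submonoid.powers f)
      have h0 : algebraMap R' (Localization.Away (algebraMap R R' f)) (algebraMap R R' f ^ n * x - algebraMap R R' a) = 0 := by
        rw [map_sub, map_mul, hxy, ← haw a, ← map_pow (algebraMap R R'), ← haw (f ^ n), ← map_mul, hspec, sub_self]
      obtain ⟨t, ht, ht'⟩ := h2 _ ((hz' _).mp h0)
      obtain ⟨c, hc⟩ := mem_span_of_map hq n (a + t) ⟨x, by rw [map_add, ht']; ring⟩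
      have hcx : algebraMap R R' f ^ n * (x - algebraMap R R' c) = 0 := by
        have := congrArg (algebraMap R R') hc
        rw [map_add, ht', map_mul, map_pow] at this
        linear_combination this
      obtain ⟨s, hs, hs'⟩ := h2 _ ⟨n, hcx⟩
      refine ⟨c + s, by rw [map_add, hs', add_sub_cancel], hu.mul_left_cancel ?_⟩
      rw [hspec, map_add, (hz s).mpr hs, add_zero, ← map_mul, ← hc, map_add, (hz t).mpr ht, add_zero]
    · obtain ⟨w, ⟨_, n, rfl⟩, rfl⟩ := IsLocalization.exists_mk'_eq (Submonoid.powers (algebraMap R R' f)) z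
      obtain ⟨a, b, hab⟩ := exists_sub_mem hq n w
      refine ⟨b, -IsLocalization.mk' (Localization.Away f) a (⟨f ^ n, n, rfl⟩ : Submonoid.powers f), ?_⟩
      rw [map_neg, sub_neg_eq_add, eq_comm, IsLocalization.mk'_eq_iff_eq_mul]
      have hspec : algebraMap R (Localization.Away f) (f ^ n) *
          IsLocalization.mk' (Localization.Away f) a (⟨f ^ n, n, rfl⟩ : Submonoid.powers f) =
          algebraMap R (Localization.Away f) a :=
        IsLocalization.mk'_spec' _ a (⟨f ^ n, n, rfl⟩ : Submonoid.powers f)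
      have hh := congrArg (Localization.awayMap (algebraMap R R') f) hspec
      rw [map_mul, haw, haw, map_pow (algebraMap R R')] at hh
      show algebraMap R' _ w = _ * algebraMap R' _ (algebraMap R R' f ^ n)
      rw [hab, map_add, map_mul, ← hh]
      ring

omit hq in
theorem exists_torsion_lift (h : EtGlue.IsGlueingPair R R' f) (x : R' ⊗[R] M) (hx : ∃ n : ℕ, f ^ n • x = 0) :
    ∃ m : M, (∃ n : ℕ, f ^ n • m = 0) ∧ (1 : R') ⊗ₜ[R] m = x := by
  obtain ⟨-, -, hex, hsurj⟩ := h
  let L := Localization.Away f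
  let L' := Localization.Away (algebraMap R R' f)
  let dB : L →ₗ[R] L' :=
    { toFun := Localization.awayMap (algebraMap R R') f
      map_add' := map_add _
      map_smul' := fun c y => by
        rw [Algebra.smul_def, map_mul, RingHom.id_apply, Algebra.smul_def]
        congr 1
        rw [show Localization.awayMap (algebraMap R R') f (algebraMap R L c) = algebraMap R' L' (algebraMap R R' c) from
          IsLocalization.map_eq _ c, ← IsScalarTower.algebraMap_apply] }
  let i : R →ₗ[R] R' × L := LinearMap.prod (Algebra.linearMap R R') (Algebra.linearMap R L)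
  let d : R' × L →ₗ[R] L' :=
    (IsScalarTower.toAlgHom R R' L').toLinearMap.comp (LinearMap.fst R R' L) - dB.comp (LinearMap.snd R R' L)
  have hid : Function.Exact i d := fun p => by
    constructor
    · intro hp
      obtain ⟨r, h1, h2⟩ := hex p.1 p.2 (sub_eq_zero.mp hp)
      exact ⟨r, Prod.ext h1 h2⟩
    · rintro ⟨r, rfl⟩
      show algebraMap R' L' (algebraMap R R' r) - Localization.awayMap (algebraMap R R') f (algebraMap R L r) = 0
      rw [show Localization.awayMap (algebraMap R R') f (algebraMap R L r) = algebraMap R' L' (algebraMap R R' r) from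
        IsLocalization.map_eq _ r, sub_self]
  have hds : Function.Surjective d := fun z => by
    obtain ⟨a, b, hab⟩ := hsurj z
    exact ⟨(a, b), hab⟩
  obtain ⟨n, hn⟩ := hx
  have h0 : d.rTensor M ((LinearMap.inl R R' L).rTensor M x) = 0 := by
    rw [← LinearMap.rTensor_comp_apply]
    have hu : IsUnit (algebraMap R L' (f ^ n)) := by
      rw [IsScalarTower.algebraMap_apply R R' L', map_pow, map_pow]
      exact (IsLocalization.Away.algebraMap_isUnit _).pow n
    obtain ⟨v, hv⟩ := hu.exists_left_inv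
    have e : ((d ∘ₗ LinearMap.inl R R' L).rTensor M) x =
        v • algebraMap R L' (f ^ n) • ((d ∘ₗ LinearMap.inl R R' L).rTensor M x) := by
      rw [← mul_smul, hv, one_smul]
    rw [e, algebraMap_smul, ← map_smul, hn, map_zero, smul_zero]
  obtain ⟨t, ht⟩ := (rTensor_exact M hid hds _).mp h0
  obtain ⟨m, rfl⟩ : ∃ m : M, (1 : R) ⊗ₜ[R] m = t := ⟨TensorProduct.lid R M t, by
    conv_rhs => rw [← (TensorProduct.lid R M).symm_apply_apply t]
    rfl⟩
  have e1 : (1 : R') ⊗ₜ[R] m = x := by
    have := congrArg ((LinearMap.fst R R' L).rTensor M) ht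
    rw [← LinearMap.rTensor_comp_apply, ← LinearMap.rTensor_comp_apply, LinearMap.fst_comp_inl, LinearMap.rTensor_id,
      LinearMap.id_apply, LinearMap.rTensor_tmul] at this
    simpa [i] using this
  have e2 : (1 : L) ⊗ₜ[R] m = 0 := by
    have := congrArg ((LinearMap.snd R R' L).rTensor M) ht
    rw [← LinearMap.rTensor_comp_apply, ← LinearMap.rTensor_comp_apply, LinearMap.snd_comp_inl, LinearMap.rTensor_zero,
      LinearMap.zero_apply, LinearMap.rTensor_tmul] at this
    simpa [i] using this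
  refine ⟨m, ?_, e1⟩
  obtain ⟨⟨_, k, rfl⟩, hk⟩ :=
    (IsLocalizedModule.eq_zero_iff (Submonoid.powers f) (TensorProduct.mk R L M 1)).mp e2
  exact ⟨k, hk⟩

theorem isGlueable_iff :
    (EtGlue.IsGlueable R R' f M ↔
      ((∀ m : M, (∃ n : ℕ, f ^ n • m = 0) → (1 : R') ⊗ₜ[R] m = 0 → m = 0) ∧
       (∀ x : R' ⊗[R] M, (∃ n : ℕ, f ^ n • x = 0) → ∃ m : M, (∃ n : ℕ, f ^ n • m = 0) ∧ (1 : R') ⊗ₜ[R] m = x))) ∧
    (EtGlue.IsGlueingPair R R' f →
      (EtGlue.IsGlueable R R' f M ↔ ∀ m : M, (∃ n : ℕ, f ^ n • m = 0) → (1 : R') ⊗ₜ[R] m = 0 → m = 0)) :=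
  ⟨⟨torsion_of_isGlueable M, fun h => isGlueable_of_torsion hq M h.1 h.2⟩,
    fun hp => ⟨fun h => (torsion_of_isGlueable M h).1,
      fun h => isGlueable_of_torsion hq M h (exists_torsion_lift M hp)⟩⟩

theorem eq_top_of_glue (W : Submodule R M) (hW : ∀ m : M, ∃ n : ℕ, f ^ n • m ∈ W)
    (hW' : Function.Surjective (W.subtype.lTensor R')) : W = ⊤ := by
  have : Subsingleton (R' ⊗[R] (M ⧸ W)) := subsingleton_of_forall_eq 0 fun x => by
    obtain ⟨x, rfl⟩ := LinearMap.lTensor_surjective R' (Submodule.mkQ_surjective W) x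
    obtain ⟨w, rfl⟩ := hW' x
    rw [← LinearMap.lTensor_comp_apply, show W.mkQ ∘ₗ W.subtype = 0 from LinearMap.ext fun w => by simp,
      LinearMap.lTensor_zero, LinearMap.zero_apply]
  exact Submodule.Quotient.subsingleton_iff.mp (subsingleton_of_torsion hq (M ⧸ W) fun q => by
    obtain ⟨m, rfl⟩ := Submodule.mkQ_surjective W q
    obtain ⟨n, hn⟩ := hW m
    exact ⟨n, by rw [← map_smul]; exact (Submodule.Quotient.mk_eq_zero W).mpr hn⟩)

omit hq in
theorem exists_finset_span {T : Type u} [CommRing T] [Algebra R T] [Module.Finite T (T ⊗[R] M)] :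
    ∃ s : Finset M, ∀ x : T ⊗[R] M, x ∈ LinearMap.range ((Submodule.span R (s : Set M)).subtype.lTensor T) := by
  classical
  obtain ⟨g, hg⟩ := (Module.Finite.fg_top : (⊤ : Submodule T (T ⊗[R] M)).FG)
  choose F hF using fun z : g => TensorProduct.exists_finset (z.1)
  let s : Finset M := Finset.univ.biUnion fun z : g => (F z).image Prod.snd
  refine ⟨s, fun x => ?_⟩
  let Wt : Submodule T (T ⊗[R] M) := LinearMap.range ((Submodule.span R (s : Set M)).subtype.baseChange T)
  suffices Wt = ⊤ by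
    obtain ⟨w, hw⟩ := this.symm ▸ Submodule.mem_top (x := x)
    exact ⟨w, hw⟩
  rw [eq_top_iff, ← hg, Submodule.span_le]
  intro z hz
  show z ∈ Wt
  rw [show z = _ from hF ⟨z, hz⟩]
  refine Submodule.sum_mem _ fun p hp => ?_
  exact ⟨p.1 ⊗ₜ ⟨p.2, Submodule.subset_span (Finset.mem_coe.mpr (Finset.mem_biUnion.mpr
    ⟨⟨z, hz⟩, Finset.mem_univ _, Finset.mem_image.mpr ⟨p, hp, rfl⟩⟩))⟩, rfl⟩

theorem finite_iff : Module.Finite R M ↔ Module.Finite R' (R' ⊗[R] M) ∧
      Module.Finite (Localization.Away f) (LocalizedModule (Submonoid.powers f) M) := by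
  classical
  constructor
  · intro h
    exact ⟨inferInstance, Module.Finite.of_isLocalizedModule (Submonoid.powers f)
      (LocalizedModule.mkLinearMap (Submonoid.powers f) M)⟩
  · rintro ⟨h₁, h₂⟩
    obtain ⟨s, hs⟩ := exists_finset_span (R := R) (T := R') M
    obtain ⟨g, hg⟩ := (Module.Finite.fg_top : (⊤ : Submodule (Localization.Away f) (LocalizedModule (Submonoid.powers f) M)).FG)
    choose n l hl using fun z : g => exists_smul_eq_mk (f := f) M z.1
    let S : Finset M := s ∪ Finset.univ.image l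
    have : Submodule.span R (S : Set M) = ⊤ := by
      refine eq_top_of_glue hq M _ (fun m => ?_) (fun x => ?_)
      · -- the localization is generated by the image of `S`
        have hm : ∀ z ∈ Submodule.span (Localization.Away f) (g : Set (LocalizedModule (Submonoid.powers f) M)),
            ∃ (k : ℕ) (w : M), w ∈ Submodule.span R (S : Set M) ∧
              f ^ k • z = LocalizedModule.mkLinearMap (Submonoid.powers f) M w := by
          intro z hz
          induction hz using Submodule.span_induction with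
          | mem z hz => exact ⟨n ⟨z, hz⟩, l ⟨z, hz⟩, Submodule.subset_span (by simp [S]), hl ⟨z, hz⟩⟩
          | zero => exact ⟨0, 0, zero_mem _, by simp⟩
          | add x y _ _ hx hy =>
            obtain ⟨k, w, hw, e⟩ := hx
            obtain ⟨k', w', hw', e'⟩ := hy
            refine ⟨k + k', f ^ k' • w + f ^ k • w', add_mem (Submodule.smul_mem _ _ hw) (Submodule.smul_mem _ _ hw'), ?_⟩
            rw [map_add, map_smul, map_smul, ← e, ← e', smul_add, ← mul_smul, ← mul_smul, ← pow_add, ← pow_add, add_comm k' k]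
          | smul c x _ hx =>
            obtain ⟨k, w, hw, e⟩ := hx
            obtain ⟨a, ⟨_, j, rfl⟩, rfl⟩ := IsLocalization.exists_mk'_eq (Submonoid.powers f) c
            refine ⟨j + k, a • w, Submodule.smul_mem _ _ hw, ?_⟩
            rw [map_smul, ← e, pow_add, mul_smul, smul_comm (f ^ k) (IsLocalization.mk' _ a _) x, ← algebraMap_smul (Localization.Away f) (f ^ j),
              ← mul_smul, IsLocalization.mk'_spec' _ a (⟨f ^ j, j, rfl⟩ : Submonoid.powers f), algebraMap_smul]
        obtain ⟨k, w, hw, e⟩ := hm (LocalizedModule.mkLinearMap (Submonoid.powers f) M m) (hg ▸ Submodule.mem_top)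
        rw [← map_smul, ← sub_eq_zero, ← map_sub, mk_eq_zero_iff] at e
        obtain ⟨j, hj⟩ := e
        rw [smul_sub, sub_eq_zero, ← mul_smul, ← pow_add] at hj
        exact ⟨j + k, hj ▸ Submodule.smul_mem _ _ hw⟩
      · obtain ⟨w, hw⟩ := hs x
        refine ⟨(Submodule.inclusion (Submodule.span_mono (Finset.coe_subset.mpr Finset.subset_union_left))).lTensor R' w, ?_⟩
        rw [← LinearMap.lTensor_comp_apply]
        exact hw
    exact ⟨⟨S, this⟩⟩

theorem existsUnique_glue_hom (N : Type u) [AddCommGroup N] [Module R N] (hN : EtGlue.IsGlueable R R' f N)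
    (φ' : R' ⊗[R] M →ₗ[R'] R' ⊗[R] N)
    (φ₁ : LocalizedModule (Submonoid.powers f) M →ₗ[R] LocalizedModule (Submonoid.powers f) N)
    (hc : ∀ m : M, EtGlue.locOfTensor R R' f N (φ' ((1 : R') ⊗ₜ[R] m)) =
      EtGlue.tensorOfLoc R R' f N (φ₁ (LocalizedModule.mkLinearMap (Submonoid.powers f) M m))) :
    ∃! ψ : M →ₗ[R] N, ψ.baseChange R' = φ' ∧
      IsLocalizedModule.map (Submonoid.powers f) (LocalizedModule.mkLinearMap (Submonoid.powers f) M)
        (LocalizedModule.mkLinearMap (Submonoid.powers f) N) ψ = φ₁ := by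
  choose ψ hψ₁ hψ₂ using fun m => hN.2 _ _ (hc m)
  let Ψ : M →ₗ[R] N :=
    { toFun := ψ
      map_add' := fun a b => hN.1 (Prod.ext
        (show (1 : R') ⊗ₜ[R] ψ (a + b) = (1 : R') ⊗ₜ[R] (ψ a + ψ b) by
          rw [tmul_add, hψ₁, hψ₁, hψ₁, tmul_add, map_add])
        (show LocalizedModule.mkLinearMap (Submonoid.powers f) N (ψ (a + b)) =
            LocalizedModule.mkLinearMap (Submonoid.powers f) N (ψ a + ψ b) by
          rw [map_add, hψ₂, hψ₂, hψ₂, map_add, map_add]))
      map_smul' := fun c a => hN.1 (Prod.ext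
        (show (1 : R') ⊗ₜ[R] ψ (c • a) = (1 : R') ⊗ₜ[R] (c • ψ a) by
          rw [tmul_smul, hψ₁, hψ₁, tmul_smul, LinearMap.map_smul_of_tower])
        (show LocalizedModule.mkLinearMap (Submonoid.powers f) N (ψ (c • a)) =
            LocalizedModule.mkLinearMap (Submonoid.powers f) N (c • ψ a) by
          rw [map_smul, hψ₂, hψ₂, map_smul, map_smul])) }
  refine ⟨Ψ, ⟨?_, ?_⟩, fun χ ⟨h1, h2⟩ => LinearMap.ext fun m => hN.1 (Prod.ext ?_ ?_)⟩
  · exact TensorProduct.AlgebraTensorModule.curry_injective (LinearMap.ext_ring (LinearMap.ext fun m => hψ₁ m))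
  · refine IsLocalizedModule.ext (Submonoid.powers f) (LocalizedModule.mkLinearMap (Submonoid.powers f) M)
      (IsLocalizedModule.map_units (LocalizedModule.mkLinearMap (Submonoid.powers f) N)) (LinearMap.ext fun m => ?_)
    rw [LinearMap.comp_apply, IsLocalizedModule.map_apply]
    exact hψ₂ m
  · show (1 : R') ⊗ₜ[R] χ m = (1 : R') ⊗ₜ[R] ψ m
    rw [hψ₁, ← h1, LinearMap.baseChange_tmul]
  · show LocalizedModule.mkLinearMap (Submonoid.powers f) N (χ m) = LocalizedModule.mkLinearMap (Submonoid.powers f) N (ψ m)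
    rw [hψ₂, ← h2, IsLocalizedModule.map_apply]

theorem finite_hom_iff (A B : Type u) [CommRing A] [Algebra R A] [CommRing B] [Algebra R B] (φ : A →ₐ[R] B) :
    φ.toRingHom.Finite ↔ (Localization.awayMap φ.toRingHom (algebraMap R A f)).Finite ∧
      (Algebra.TensorProduct.map (AlgHom.id R R') φ).toRingHom.Finite := by
  classical
  let : Algebra A B := φ.toRingHom.toAlgebra
  have : IsScalarTower R A B := .of_algebraMap_eq fun r => (φ.commutes r).symm
  let Φ := Algebra.TensorProduct.map (AlgHom.id R R') φ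
  let Af := Localization.Away (algebraMap R A f)
  let Bf := Localization.Away (φ.toRingHom (algebraMap R A f))
  let ψ : Af →+* Bf := Localization.awayMap φ.toRingHom (algebraMap R A f)
  have hψ : ∀ a, ψ (algebraMap A Af a) = algebraMap B Bf (φ a) := fun a => IsLocalization.map_eq _ a
  constructor
  · intro h
    have hBfin : Module.Finite A B := h
    obtain ⟨g, hg⟩ := (Module.Finite.fg_top : (⊤ : Submodule A B).FG)
    constructor
    · let : Algebra Af Bf := ψ.toAlgebra
      have hsmul : ∀ (x : Af) (y : Bf), x • y = ψ x * y := fun _ _ => rfl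
      refine ⟨g.image (algebraMap B Bf), eq_top_iff.mpr fun z _ => ?_⟩
      obtain ⟨b, ⟨_, k, rfl⟩, rfl⟩ := IsLocalization.exists_mk'_eq (Submonoid.powers (φ.toRingHom (algebraMap R A f))) z
      rename_i hz0
      clear hz0
      set W := Submodule.span Af ((g.image (algebraMap B Bf) : Finset Bf) : Set Bf)
      have hb : algebraMap B Bf b ∈ W := by
        have hb : b ∈ Submodule.span A (g : Set B) := hg ▸ Submodule.mem_top
        induction hb using Submodule.span_induction with
        | mem x hx => exact Submodule.subset_span (by simp; exact ⟨x, hx, rfl⟩)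
        | zero => rw [map_zero]; exact zero_mem _
        | add x y _ _ hx hy => rw [map_add]; exact add_mem hx hy
        | smul a x _ hx =>
          rw [show algebraMap B Bf (a • x) = algebraMap A Af a • algebraMap B Bf x by
            rw [hsmul, hψ]; exact map_mul _ _ _]
          exact W.smul_mem _ hx
      rw [show IsLocalization.mk' Bf b (⟨φ.toRingHom (algebraMap R A f) ^ k, k, rfl⟩ : Submonoid.powers _) =
          IsLocalization.mk' Af 1 (⟨algebraMap R A f ^ k, k, rfl⟩ : Submonoid.powers _) • algebraMap B Bf b by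
        rw [IsLocalization.mk'_eq_iff_eq_mul, hsmul, mul_comm, ← mul_assoc]
        show _ = algebraMap B Bf (φ.toRingHom (algebraMap R A f) ^ k) * _ * _
        rw [← map_pow φ.toRingHom, show algebraMap B Bf (φ.toRingHom (algebraMap R A f ^ k)) = ψ (algebraMap A Af (algebraMap R A f ^ k)) from
          (hψ _).symm, ← map_mul, IsLocalization.mk'_spec' _ 1 (⟨algebraMap R A f ^ k, k, rfl⟩ : Submonoid.powers (algebraMap R A f)),
          map_one, map_one, one_mul]]
      exact W.smul_mem _ hb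
    · let : Algebra (R' ⊗[R] A) (R' ⊗[R] B) := Φ.toRingHom.toAlgebra
      have hsmul : ∀ (x : R' ⊗[R] A) (y : R' ⊗[R] B), x • y = Φ x * y := fun _ _ => rfl
      refine ⟨g.image fun b => (1 : R') ⊗ₜ[R] b, eq_top_iff.mpr fun z _ => ?_⟩
      set W := Submodule.span (R' ⊗[R] A) ((g.image fun b => (1 : R') ⊗ₜ[R] b : Finset (R' ⊗[R] B)) : Set (R' ⊗[R] B))
      induction z with
      | zero => exact zero_mem _
      | add x y hx hy => exact add_mem (hx trivial) (hy trivial)
      | tmul r b =>
        have hb : b ∈ Submodule.span A (g : Set B) := hg ▸ Submodule.mem_top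
        induction hb using Submodule.span_induction generalizing r with
        | mem x hx =>
          rw [show r ⊗ₜ[R] x = (r ⊗ₜ[R] (1 : A)) • ((1 : R') ⊗ₜ[R] x) by simp [hsmul, Φ]]
          exact W.smul_mem _ (Submodule.subset_span (by simp; exact ⟨x, hx, rfl⟩))
        | zero => rw [tmul_zero]; exact zero_mem _
        | add x y _ _ hx hy => rw [tmul_add]; exact add_mem (hx r trivial) (hy r trivial)
        | smul a x _ hx =>
          rw [show r ⊗ₜ[R] (a • x) = ((1 : R') ⊗ₜ[R] a) • (r ⊗ₜ[R] x) by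
            rw [hsmul]; simp [Φ]; rfl]
          exact W.smul_mem _ (hx r trivial)
  · rintro ⟨h1, h2⟩
    obtain ⟨g₁, hg₁⟩ : ∃ g : Finset B, ∀ b : B, ∃ k : ℕ, f ^ k • b ∈ Submodule.span A (g : Set B) := by
      let : Algebra Af Bf := ψ.toAlgebra
      have hsmul : ∀ (x : Af) (y : Bf), x • y = ψ x * y := fun _ _ => rfl
      obtain ⟨g, hg⟩ := h1.fg_top
      choose b s hbs using fun z : g => IsLocalization.exists_mk'_eq (Submonoid.powers (φ.toRingHom (algebraMap R A f))) z.1
      let G : Finset B := Finset.univ.image b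
      refine ⟨G, fun x => ?_⟩
      have key : ∀ z ∈ Submodule.span Af (g : Set Bf), ∃ k : ℕ, ∃ w ∈ Submodule.span A (G : Set B),
          algebraMap B Bf (φ.toRingHom (algebraMap R A f) ^ k) * z = algebraMap B Bf w := by
        intro z hz
        induction hz using Submodule.span_induction with
        | mem z hz =>
          obtain ⟨k, hk⟩ := (s ⟨z, hz⟩).2
          refine ⟨k, b ⟨z, hz⟩, Submodule.subset_span (by simp [G]), ?_⟩
          conv_lhs => rw [show z = _ from (hbs ⟨z, hz⟩).symm, show φ.toRingHom (algebraMap R A f) ^ k = _ from hk]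
          exact IsLocalization.mk'_spec' _ _ _
        | zero => exact ⟨0, 0, zero_mem _, by simp⟩
        | add x y _ _ hx hy =>
          obtain ⟨k, w, hw, e⟩ := hx
          obtain ⟨k', w', hw', e'⟩ := hy
          refine ⟨k + k', (algebraMap R A f ^ k') • w + (algebraMap R A f ^ k) • w',
            add_mem (Submodule.smul_mem _ _ hw) (Submodule.smul_mem _ _ hw'), ?_⟩
          rw [Algebra.smul_def, Algebra.smul_def, map_add, map_mul, map_mul, ← e, ← e', pow_add, map_mul]
          simp only [show algebraMap A B = φ.toRingHom from rfl, map_pow]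
          ring
        | smul c x _ hx =>
          obtain ⟨k, w, hw, e⟩ := hx
          obtain ⟨a, ⟨_, j, rfl⟩, rfl⟩ := IsLocalization.exists_mk'_eq (Submonoid.powers (algebraMap R A f)) c
          refine ⟨j + k, a • w, Submodule.smul_mem _ _ hw, ?_⟩
          rw [hsmul, Algebra.smul_def, map_mul, ← e, show algebraMap B Bf (algebraMap A B a) = ψ (algebraMap A Af a) from (hψ a).symm,
            ← IsLocalization.mk'_spec' Af a (⟨algebraMap R A f ^ j, j, rfl⟩ : Submonoid.powers (algebraMap R A f)), map_mul, hψ,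
            pow_add, map_mul]
          show algebraMap B Bf (φ.toRingHom (algebraMap R A f) ^ j) * _ * _ = algebraMap B Bf (φ.toRingHom (algebraMap R A f ^ j)) * _ * _
          rw [map_pow φ.toRingHom]
          ring
      obtain ⟨k, w, hw, e⟩ := key (algebraMap B Bf x) (hg ▸ Submodule.mem_top)
      rw [← map_mul] at e
      obtain ⟨⟨_, j, rfl⟩, hj⟩ := (IsLocalization.eq_iff_exists (Submonoid.powers (φ.toRingHom (algebraMap R A f))) Bf).mp e
      refine ⟨j + k, ?_⟩
      have : f ^ (j + k) • x = (algebraMap R A f ^ j) • w := by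
        rw [Algebra.smul_def, Algebra.smul_def, IsScalarTower.algebraMap_apply R A B, map_pow (algebraMap R A), pow_add,
          map_mul, mul_assoc, map_pow (algebraMap A B) _ j, map_pow (algebraMap A B) _ k]
        exact hj
      exact this ▸ Submodule.smul_mem _ _ hw
    obtain ⟨g₂, hg₂⟩ : ∃ g : Finset B, ∀ z : R' ⊗[R] B,
        z ∈ LinearMap.range (((Submodule.span A (g : Set B)).restrictScalars R).subtype.lTensor R') := by
      let : Algebra (R' ⊗[R] A) (R' ⊗[R] B) := Φ.toRingHom.toAlgebra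
      have hsmul : ∀ (x : R' ⊗[R] A) (y : R' ⊗[R] B), x • y = Φ x * y := fun _ _ => rfl
      obtain ⟨g, hg⟩ := h2.fg_top
      choose F hF using fun z : g => TensorProduct.exists_finset (z.1)
      let G : Finset B := Finset.univ.biUnion fun z : g => (F z).image Prod.snd
      let W := (Submodule.span A (G : Set B)).restrictScalars R
      refine ⟨G, fun z => ?_⟩
      have hz : z ∈ Submodule.span (R' ⊗[R] A) (g : Set (R' ⊗[R] B)) := hg ▸ Submodule.mem_top
      induction hz using Submodule.span_induction with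
      | mem z hz =>
        rw [show z = _ from hF ⟨z, hz⟩]
        refine Submodule.sum_mem _ fun p hp => ?_
        exact ⟨p.1 ⊗ₜ ⟨p.2, Submodule.subset_span (Finset.mem_coe.mpr (Finset.mem_biUnion.mpr
          ⟨⟨z, hz⟩, Finset.mem_univ _, Finset.mem_image.mpr ⟨p, hp, rfl⟩⟩))⟩, rfl⟩
      | zero => exact zero_mem _
      | add x y _ _ hx hy => exact add_mem hx hy
      | smul c x hxm hx =>
        obtain ⟨w, rfl⟩ := hx
        rw [hsmul]
        clear hxm
        induction w with
        | zero => simp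
        | add u v hu hv => rw [map_add, mul_add]; exact add_mem hu hv
        | tmul r' b =>
          induction c with
          | zero => simp
          | add u v hu hv => rw [map_add, add_mul]; exact add_mem hu hv
          | tmul r a =>
            refine ⟨(r * r') ⊗ₜ ⟨a • b.1, Submodule.smul_mem _ a b.2⟩, ?_⟩
            simp [Φ, W, Algebra.smul_def]
            rfl
    let G := g₁ ∪ g₂
    have htop : (Submodule.span A (G : Set B)).restrictScalars R = ⊤ := by
      refine eq_top_of_glue hq B _ (fun b => ?_) (fun z => ?_)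
      · obtain ⟨k, hk⟩ := hg₁ b
        exact ⟨k, Submodule.span_mono (Finset.coe_subset.mpr Finset.subset_union_left) hk⟩
      · obtain ⟨w, hw⟩ := hg₂ z
        have hle : (Submodule.span A (g₂ : Set B)).restrictScalars R ≤ (Submodule.span A (G : Set B)).restrictScalars R :=
          fun x hx => Submodule.span_mono (Finset.coe_subset.mpr Finset.subset_union_right) hx
        refine ⟨(Submodule.inclusion hle).lTensor R' w, ?_⟩
        rw [← LinearMap.lTensor_comp_apply]
        exact hw
    exact ⟨⟨G, (Submodule.restrictScalars_eq_top_iff R A B).mp htop⟩⟩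

omit hq in
theorem jointly_surjective
    (hq : Function.Bijective
      (Ideal.quotientMap (Ideal.map (algebraMap R R') (Ideal.span {f})) (algebraMap R R') Ideal.le_comap_map))
    (p : PrimeSpectrum R) :
    (∃ q : PrimeSpectrum R', PrimeSpectrum.comap (algebraMap R R') q = p) ∨
      ∃ q : PrimeSpectrum (Localization.Away f), PrimeSpectrum.comap (algebraMap R (Localization.Away f)) q = p := by
  by_cases hf : f ∈ p.asIdeal
  · left
    let e := RingEquiv.ofBijective _ hq
    have hle : Ideal.span {f} ≤ p.asIdeal := (Ideal.span_singleton_le_iff_mem _).mpr hf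
    let Q := ((p.asIdeal.map (Ideal.Quotient.mk (Ideal.span {f}))).comap e.symm.toRingHom).comap
      (Ideal.Quotient.mk (Ideal.map (algebraMap R R') (Ideal.span {f})))
    have : (p.asIdeal.map (Ideal.Quotient.mk (Ideal.span {f}))).IsPrime :=
      Ideal.map_isPrime_of_surjective Ideal.Quotient.mk_surjective (Ideal.mk_ker.trans_le hle)
    refine ⟨⟨Q, (this.comap _).comap _⟩, PrimeSpectrum.ext (Ideal.ext fun a => ?_)⟩
    show e.symm (Ideal.Quotient.mk _ (algebraMap R R' a)) ∈ p.asIdeal.map (Ideal.Quotient.mk (Ideal.span {f})) ↔ _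
    rw [show e.symm (Ideal.Quotient.mk _ (algebraMap R R' a)) = Ideal.Quotient.mk (Ideal.span {f}) a from
      (RingEquiv.symm_apply_eq e).mpr rfl, ← Ideal.mem_comap, Ideal.comap_map_of_surjective' _ Ideal.Quotient.mk_surjective,
      Ideal.mk_ker, sup_eq_left.mpr hle]
  · right
    have : p ∈ Set.range (PrimeSpectrum.comap (algebraMap R (Localization.Away f))) := by
      rw [PrimeSpectrum.localization_away_comap_range (Localization.Away f) f]
      exact hf
    exact this

end Groth.Agent.EtGlue7
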