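import Mathlib
import Groth.Prelude.Def_EtGlue
import Groth.Prelude.Def_DRing2
import Groth.Agent.EtGlue7.Basic
import Groth.Agent.TorBridge.Basic

/-!
# Glueing pairs: `Tor₁` against torsion modules, descent of flatness and projectivity
-/

noncomputable section

namespace Groth.Agent.EtGlue7

universe u

open TensorProduct CategoryTheory

section Chase

variable {A : Type u} [CommRing A]

theorem rTensor_lTensor_comm {L G N P : Type u} [AddCommGroup L] [Module A L] [AddCommGroup G] [Module A G]
    [AddCommGroup N] [Module A N] [AddCommGroup P] [Module A P] (g : L →ₗ[A] G) (i : N →ₗ[A] P) (x : L ⊗[A] N) :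
    g.rTensor P (i.lTensor L x) = i.lTensor G (g.rTensor N x) := by
  induction x with
  | zero => simp
  | tmul a b => simp
  | add a b ha hb => simp only [map_add, ha, hb]

variable {Z G L : Type u} [AddCommGroup Z] [Module A Z] [AddCommGroup G] [Module A G] [AddCommGroup L] [Module A L]
  (ι : Z →ₗ[A] G) (q : G →ₗ[A] L) (hex : Function.Exact ι q) (hq : Function.Surjective q)

include hex hq

/-- If `Z → G → L → 0` is exact with `G` flat, `N → P → C → 0` is short exact and `Z ⊗ C → G ⊗ C` is
injective, then `L ⊗ N → L ⊗ P` is injective. -/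
theorem lTensor_injective_of_rTensor_injective [Module.Flat A G]
    {N P C : Type u} [AddCommGroup N] [Module A N] [AddCommGroup P] [Module A P] [AddCommGroup C] [Module A C]
    {i : N →ₗ[A] P} (hi : Function.Injective i) {p : P →ₗ[A] C} (hex' : Function.Exact i p)
    (hp : Function.Surjective p) (h : Function.Injective (ι.rTensor C)) :
    Function.Injective (i.lTensor L) := by
  rw [injective_iff_map_eq_zero]
  intro u hu
  obtain ⟨v, rfl⟩ := LinearMap.rTensor_surjective N hq u
  rw [← rTensor_lTensor_comm] at hu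
  obtain ⟨w, hw⟩ := (rTensor_exact P hex hq _).mp hu
  have h2 : p.lTensor Z w = 0 := by
    apply h
    rw [map_zero, rTensor_lTensor_comm, hw, ← LinearMap.lTensor_comp_apply, hex'.linearMap_comp_eq_zero,
      LinearMap.lTensor_zero, LinearMap.zero_apply]
  obtain ⟨y, rfl⟩ := (lTensor_exact Z hex' hp _).mp h2
  rw [rTensor_lTensor_comm] at hw
  have h3 := Module.Flat.lTensor_preserves_injective_linearMap (M := G) i hi hw
  rw [← h3, ← LinearMap.rTensor_comp_apply, hex.linearMap_comp_eq_zero, LinearMap.rTensor_zero, LinearMap.zero_apply]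

theorem flat_of_rTensor_injective [Module.Flat A G]
    (h : ∀ (C : Type u) [AddCommGroup C] [Module A C], Function.Injective (ι.rTensor C)) : Module.Flat A L := by
  rw [Module.Flat.iff_lTensor_preserves_injective_linearMap]
  intro N P _ _ _ _ i hi
  exact lTensor_injective_of_rTensor_injective ι q hex hq hi
    (LinearMap.exact_map_mkQ_range i) (Submodule.mkQ_surjective _) (h _)

theorem rTensor_injective_of_flat [Module.Flat A L] (hι : Function.Injective ι) (C : Type u) [AddCommGroup C]
    [Module A C] : Function.Injective (ι.rTensor C) := by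
  let q₀ : (C →₀ A) →ₗ[A] C := Finsupp.linearCombination A id
  let ι₀ : ↥(LinearMap.ker q₀) →ₗ[A] (C →₀ A) := (LinearMap.ker q₀).subtype
  refine (LinearMap.lTensor_inj_iff_rTensor_inj C ι).mp
    (lTensor_injective_of_rTensor_injective (Z := ↥(LinearMap.ker q₀)) (G := C →₀ A) (L := C) ι₀ q₀ (LinearMap.exact_subtype_ker_map q₀)
      (fun c => ⟨Finsupp.single c 1, by simp [q₀]⟩) hι hex hq ?_)
  exact Module.Flat.rTensor_preserves_injective_linearMap (M := L) _ (LinearMap.ker q₀).injective_subtype

theorem flat_ker [Module.Flat A G] [Module.Flat A L] (hι : Function.Injective ι) : Module.Flat A Z := by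
  rw [Module.Flat.iff_lTensor_preserves_injective_linearMap]
  intro N P _ _ _ _ i hi
  rw [injective_iff_map_eq_zero]
  intro u hu
  have := congrArg (ι.rTensor P) hu
  rw [map_zero, rTensor_lTensor_comm, ← (i.lTensor G).map_zero] at this
  exact rTensor_injective_of_flat ι q hex hq hι N
    ((Module.Flat.lTensor_preserves_injective_linearMap (M := G) i hi this).trans (map_zero _).symm)

end Chase

variable {R R' : Type u} [CommRing R] [CommRing R'] [Algebra R R'] {f : R}

theorem exists_pow_smul_eq_zero_tensor {M N : Type u} [AddCommGroup M] [Module R M] [AddCommGroup N] [Module R N]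
    (hN : ∀ m : N, ∃ n : ℕ, f ^ n • m = 0) (x : M ⊗[R] N) : ∃ n : ℕ, f ^ n • x = 0 := by
  induction x with
  | zero => exact ⟨0, smul_zero _⟩
  | tmul a b =>
    obtain ⟨n, hn⟩ := hN b
    exact ⟨n, by rw [← tmul_smul, hn, tmul_zero]⟩
  | add a b ha hb =>
    obtain ⟨n, hn⟩ := ha
    obtain ⟨m, hm⟩ := hb
    exact ⟨n + m, by rw [smul_add, pow_add, mul_smul, mul_smul, hm, smul_comm (f ^ n) (f ^ m), hn, smul_zero,
      smul_zero, add_zero]⟩

theorem exists_pow_smul_eq_zero_iff_away {X : Type u} [AddCommGroup X] [Module R X] (x : X) :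
    (∃ n : ℕ, f ^ n • x = 0) ↔ (1 : Localization.Away f) ⊗ₜ[R] x = 0 := by
  refine Iff.trans ?_ (IsLocalizedModule.eq_zero_iff (Submonoid.powers f)
    (TensorProduct.mk R (Localization.Away f) X 1)).symm
  exact ⟨fun ⟨n, hn⟩ => ⟨⟨_, n, rfl⟩, hn⟩, fun ⟨⟨_, n, rfl⟩, hn⟩ => ⟨n, hn⟩⟩

theorem hF_finsupp (h : EtGlue.IsGlueingPair R R' f) (X : Type u) (m : X →₀ R) (hm : ∃ n : ℕ, f ^ n • m = 0)
    (hm' : (1 : R') ⊗ₜ[R] m = 0) : m = 0 := by
  ext a
  obtain ⟨n, hn⟩ := hm
  refine ((isGlueingPair_iff h.1).mp h).1 (m a) ⟨n, ?_⟩ ?_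
  · have := DFunLike.congr_fun hn a
    simpa using this
  · have := congrArg ((Finsupp.lapply (R := R) a).lTensor R') hm'
    rw [LinearMap.lTensor_tmul, map_zero] at this
    have := congrArg (TensorProduct.rid R R') this
    simpa [Algebra.algebraMap_eq_smul_one] using this

variable {M L G : Type u} [AddCommGroup M] [Module R M] [AddCommGroup L] [Module R L] [AddCommGroup G] [Module R G]

theorem injective_lTensor (h : EtGlue.IsGlueingPair R R' f) (ι : L →ₗ[R] G) (hι : Function.Injective ι)
    (hG : ∀ m : G, (∃ n : ℕ, f ^ n • m = 0) → (1 : R') ⊗ₜ[R] m = 0 → m = 0)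
    (hker : ∀ x : R' ⊗[R] L, ι.lTensor R' x = 0 → ∃ n : ℕ, f ^ n • x = 0) :
    Function.Injective (ι.lTensor R') := by
  rw [injective_iff_map_eq_zero]
  intro x hx
  obtain ⟨l, ⟨n, hn⟩, rfl⟩ := exists_torsion_lift L h x (hker x hx)
  rw [LinearMap.lTensor_tmul] at hx
  rw [hι ((hG (ι l) ⟨n, by rw [← map_smul, hn, map_zero]⟩ hx).trans (map_zero ι).symm), tmul_zero]

theorem comm_rTensor (g : L →ₗ[R] G) {N : Type u} [AddCommGroup N] [Module R N] (x : L ⊗[R] N) :
    TensorProduct.comm R G N (g.rTensor N x) = g.lTensor N (TensorProduct.comm R L N x) := by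
  induction x with
  | zero => simp
  | tmul a b => simp
  | add a b ha hb => simp only [map_add, ha, hb]

section Exact

variable (ι : L →ₗ[R] G) (q : G →ₗ[R] M) (hex : Function.Exact ι q) (hq : Function.Surjective q)
  (hι : Function.Injective ι)

include hex hq hι

theorem torsion_of_map_zero [Module.Flat R (Localization.Away f ⊗[R] M)] (N : Type u) [AddCommGroup N] [Module R N]
    (x : N ⊗[R] L) (hx : ι.lTensor N x = 0) : ∃ n : ℕ, f ^ n • x = 0 := by
  let Lf := Localization.Away f
  have : Module.Flat R Lf := IsLocalization.flat Lf (Submonoid.powers f)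
  have hinj : Function.Injective ((ι.lTensor Lf).lTensor N) := (LinearMap.lTensor_inj_iff_rTensor_inj N _).mpr
    (rTensor_injective_of_flat (ι.lTensor Lf) (q.lTensor Lf) (lTensor_exact Lf hex hq)
      (LinearMap.lTensor_surjective Lf hq) (Module.Flat.lTensor_preserves_injective_linearMap ι hι) N)
  have e1 : (ι.lTensor Lf).lTensor N ((TensorProduct.mk R Lf L 1).lTensor N x) =
      (TensorProduct.mk R Lf G 1).lTensor N (ι.lTensor N x) := by
    rw [← LinearMap.lTensor_comp_apply, ← LinearMap.lTensor_comp_apply]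
    congr 2
  rw [hx, map_zero] at e1
  have e2 : (TensorProduct.mk R Lf L 1).lTensor N x = 0 := hinj (e1.trans (map_zero _).symm)
  have e3 : TensorProduct.leftComm R N Lf L ((TensorProduct.mk R Lf L 1).lTensor N x) = (1 : Lf) ⊗ₜ[R] x := by
    clear e1 e2 hx
    induction x with
    | zero => simp
    | tmul a b => simp
    | add a b ha hb => simp only [map_add, tmul_add, ha, hb]
  rw [e2, map_zero] at e3
  exact (exists_pow_smul_eq_zero_iff_away x).mpr e3.symm

theorem rTensor_injective_torsion (h : EtGlue.IsGlueingPair R R' f)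
    [Module.Flat R' (R' ⊗[R] M)] [Module.Flat R (Localization.Away f ⊗[R] M)]
    (hG : ∀ m : G, (∃ n : ℕ, f ^ n • m = 0) → (1 : R') ⊗ₜ[R] m = 0 → m = 0)
    (N : Type u) [AddCommGroup N] [Module R N] (hN : ∀ m : N, ∃ n : ℕ, f ^ n • m = 0) :
    Function.Injective (ι.rTensor N) := by
  have hinj := injective_lTensor h ι hι hG (torsion_of_map_zero ι q hex hq hι R')
  have hinj' : Function.Injective ((ι.baseChange R').rTensor (R' ⊗[R] N)) :=
    rTensor_injective_of_flat (ι.baseChange R') (q.baseChange R') (lTensor_exact R' hex hq)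
      (LinearMap.lTensor_surjective R' hq) hinj _
  rw [injective_iff_map_eq_zero]
  intro x hx
  let ΘL := (AlgebraTensorModule.cancelBaseChange R R' R' (R' ⊗[R] L) N).symm
  let ΘG := (AlgebraTensorModule.cancelBaseChange R R' R' (R' ⊗[R] G) N).symm
  have e1 : (ι.baseChange R').rTensor (R' ⊗[R] N) (ΘL ((TensorProduct.mk R R' L 1).rTensor N x)) =
      ΘG ((TensorProduct.mk R R' G 1).rTensor N (ι.rTensor N x)) := by
    clear hx
    induction x with
    | zero => simp
    | tmul a b => simp [ΘL, ΘG]
    | add a b ha hb => simp only [map_add, ha, hb]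
  rw [hx, map_zero, map_zero] at e1
  have e2 : ΘL ((TensorProduct.mk R R' L 1).rTensor N x) = 0 := hinj' (e1.trans (map_zero _).symm)
  rw [LinearEquiv.map_eq_zero_iff] at e2
  have e3 : TensorProduct.assoc R R' L N ((TensorProduct.mk R R' L 1).rTensor N x) = (1 : R') ⊗ₜ[R] x := by
    clear e1 e2 hx
    induction x with
    | zero => simp
    | tmul a b => simp
    | add a b ha hb => simp only [map_add, tmul_add, ha, hb]
  rw [e2, map_zero] at e3
  exact eq_zero_of_torsion h.1 (L ⊗[R] N) (exists_pow_smul_eq_zero_tensor hN) e3.symm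

end Exact

theorem leftComm_lTensor_mk {N : Type u} [AddCommGroup N] [Module R N] (x : L ⊗[R] N) :
    TensorProduct.leftComm R L (Localization.Away f) N ((TensorProduct.mk R (Localization.Away f) N 1).lTensor L x) =
      (1 : Localization.Away f) ⊗ₜ[R] x := by
  induction x with
  | zero => simp
  | tmul a b => simp
  | add a b ha hb => simp only [map_add, tmul_add, ha, hb]

variable (M)

theorem exists_presentation (h : EtGlue.IsGlueingPair R R' f) :
    ∃ (K G₀ : Type u) (_ : AddCommGroup K) (_ : Module R K) (_ : AddCommGroup G₀) (_ : Module R G₀)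
      (ι : K →ₗ[R] G₀) (q : G₀ →ₗ[R] M), Module.Flat R G₀ ∧ Function.Exact ι q ∧ Function.Surjective q ∧
      Function.Injective ι ∧ ∀ m : G₀, (∃ n : ℕ, f ^ n • m = 0) → (1 : R') ⊗ₜ[R] m = 0 → m = 0 := by
  refine ⟨↥(LinearMap.ker (Finsupp.linearCombination R (id : M → M))), M →₀ R, inferInstance, inferInstance, inferInstance, inferInstance, (LinearMap.ker (Finsupp.linearCombination R (id : M → M))).subtype,
    Finsupp.linearCombination R (id : M → M), inferInstance, LinearMap.exact_subtype_ker_map _,
    Finsupp.linearCombination_id_surjective R M, Submodule.injective_subtype _, hF_finsupp h M⟩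

/-- If `R' ⊗ L` and `L_f` are flat, tensoring with `L` keeps injective a map with torsion cokernel. -/
theorem lTensor_injective_of_torsion_coker (h : EtGlue.IsGlueingPair R R' f)
    [Module.Flat R' (R' ⊗[R] L)] [Module.Flat R (Localization.Away f ⊗[R] L)]
    {N P : Type u} [AddCommGroup N] [Module R N] [AddCommGroup P] [Module R P] (i : N →ₗ[R] P)
    (hi : Function.Injective i) (hC : ∀ y : P, ∃ (n : ℕ) (m : N), i m = f ^ n • y) :
    Function.Injective (i.lTensor L) := by
  obtain ⟨K, G₁, _, _, _, _, ι₁, q₁, hflat, hex₁, hq₁, hι₁, hG₁⟩ := exists_presentation L h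
  refine lTensor_injective_of_rTensor_injective ι₁ q₁ hex₁ hq₁ hi
      (LinearMap.exact_map_mkQ_range i) (Submodule.mkQ_surjective _)
      (rTensor_injective_torsion ι₁ q₁ hex₁ hq₁ hι₁ h hG₁ _ fun c => ?_)
  obtain ⟨y, rfl⟩ := Submodule.mkQ_surjective _ c
  obtain ⟨n, m, hm⟩ := hC y
  exact ⟨n, by
    rw [← map_smul, Submodule.mkQ_apply, Submodule.Quotient.mk_eq_zero]
    exact ⟨m, hm⟩⟩

theorem rTensor_injective_glueingPair (h : EtGlue.IsGlueingPair R R' f) (ι : L →ₗ[R] G) (q : G →ₗ[R] M)
    (hex : Function.Exact ι q) (hq : Function.Surjective q) (hι : Function.Injective ι) [Module.Flat R G]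
    (hG : ∀ m : G, (∃ n : ℕ, f ^ n • m = 0) → (1 : R') ⊗ₜ[R] m = 0 → m = 0)
    [Module.Flat R' (R' ⊗[R] M)] [Module.Flat R (Localization.Away f ⊗[R] M)]
    (N : Type u) [AddCommGroup N] [Module R N] : Function.Injective (ι.rTensor N) := by
  have : Module.Flat R (Localization.Away f) := IsLocalization.flat _ (Submonoid.powers f)
  have hinj := injective_lTensor h ι hι hG (torsion_of_map_zero (f := f) ι q hex hq hι R')
  have : Module.Flat R' (R' ⊗[R] L) :=
    flat_ker (ι.baseChange R') (q.baseChange R') (lTensor_exact R' hex hq) (LinearMap.lTensor_surjective R' hq) hinj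
  have : Module.Flat R (Localization.Away f ⊗[R] L) :=
    flat_ker (ι.lTensor _) (q.lTensor _) (lTensor_exact _ hex hq) (LinearMap.lTensor_surjective _ hq)
      (Module.Flat.lTensor_preserves_injective_linearMap ι hι)
  rw [injective_iff_map_eq_zero]
  intro x hx
  obtain ⟨n, hn⟩ := torsion_of_map_zero (f := f) ι q hex hq hι N (TensorProduct.comm R L N x) (by
    rw [← comm_rTensor ι x, hx, map_zero])
  have htors : f ^ n • x = 0 := (TensorProduct.comm R L N).injective (by rw [map_smul, hn, map_zero])
  let j : N →ₗ[R] Localization.Away f ⊗[R] N := TensorProduct.mk R (Localization.Away f) N 1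
  let T := LinearMap.ker j
  have hT : ∀ t : T, ∃ n : ℕ, f ^ n • t = 0 := fun t => by
    obtain ⟨n, hn⟩ := (exists_pow_smul_eq_zero_iff_away (f := f) (t : N)).mpr t.2
    exact ⟨n, Subtype.ext hn⟩
  let j' : N ⧸ T →ₗ[R] Localization.Away f ⊗[R] N := T.liftQ j le_rfl
  have hj' : Function.Injective j' := LinearMap.ker_eq_bot.mp (Submodule.ker_liftQ_eq_bot' _ _ rfl)
  have hj'L : Function.Injective (j'.lTensor L) := lTensor_injective_of_torsion_coker (f := f) h j' hj' fun y => by
    obtain ⟨⟨m, ⟨_, k, rfl⟩⟩, hm⟩ := IsLocalizedModule.surj (Submonoid.powers f) j y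
    exact ⟨k, T.mkQ m, hm.symm⟩
  have h0 : j.lTensor L x = 0 := by
    rw [← LinearEquiv.map_eq_zero_iff (TensorProduct.leftComm R L (Localization.Away f) N), leftComm_lTensor_mk x]
    exact (exists_pow_smul_eq_zero_iff_away x).mp ⟨n, htors⟩
  have h1 : T.mkQ.lTensor L x = 0 := hj'L (by
    rw [map_zero, ← LinearMap.lTensor_comp_apply, show j' ∘ₗ T.mkQ = j from T.liftQ_mkQ j le_rfl, h0])
  obtain ⟨y, rfl⟩ := (lTensor_exact _ (LinearMap.exact_subtype_mkQ T) (Submodule.mkQ_surjective T) _).mp h1
  rw [rTensor_lTensor_comm] at hx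
  rw [rTensor_injective_torsion ι q hex hq hι h hG ↥T hT
    ((Module.Flat.lTensor_preserves_injective_linearMap (M := G) T.subtype T.injective_subtype
      (hx.trans (map_zero _).symm)).trans (map_zero _).symm), map_zero]

/-- Flatness descends along a glueing pair. -/
theorem flat_of_glueingPair (h : EtGlue.IsGlueingPair R R' f)
    [Module.Flat R' (R' ⊗[R] M)] [Module.Flat R (Localization.Away f ⊗[R] M)] : Module.Flat R M := by
  obtain ⟨K, G₀, _, _, _, _, ι, q, hflat, hex, hq, hι, hG⟩ := exists_presentation M h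
  exact flat_of_rTensor_injective ι q hex hq fun N _ _ =>
    rTensor_injective_glueingPair M h ι q hex hq hι hG N

theorem flat_iff_glueingPair (h : EtGlue.IsGlueingPair R R' f) :
    Module.Flat R M ↔ Module.Flat R' (R' ⊗[R] M) ∧
      Module.Flat (Localization.Away f) (LocalizedModule (Submonoid.powers f) M) := by
  have key : Module.Flat (Localization.Away f) (LocalizedModule (Submonoid.powers f) M) ↔
      Module.Flat R (Localization.Away f ⊗[R] M) := by
    rw [Module.flat_iff_of_isLocalization (R := R) (S := Localization.Away f) (M := LocalizedModule (Submonoid.powers f) M)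
      (p := Submonoid.powers f)]
    have e := (LocalizedModule.equivTensorProduct (Submonoid.powers f) M).restrictScalars R
    exact ⟨fun _ => Module.Flat.of_linearEquiv e.symm, fun _ => Module.Flat.of_linearEquiv e⟩
  constructor
  · intro hflat
    have : Module.Flat R (Localization.Away f) := IsLocalization.flat _ (Submonoid.powers f)
    exact ⟨inferInstance, key.mpr inferInstance⟩
  · rintro ⟨h1, h2⟩
    have := key.mp h2
    exact flat_of_glueingPair M h

theorem finite_baseChange_ker {T : Type u} [CommRing T] [Algebra R T] (ι : L →ₗ[R] G) (q : G →ₗ[R] M)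
    (hex : Function.Exact ι q) (hq : Function.Surjective q) (hinj : Function.Injective (ι.lTensor T))
    [Module.Finite R G] [Module.Projective T (T ⊗[R] M)] : Module.Finite T (T ⊗[R] L) := by
  have : Module.Finite T (T ⊗[R] M) :=
    Module.Finite.of_surjective (q.baseChange T) (LinearMap.lTensor_surjective T hq)
  have : Module.FinitePresentation T (T ⊗[R] M) := Module.finitePresentation_of_projective T _
  have hfg := Module.FinitePresentation.fg_ker (q.baseChange T) (LinearMap.lTensor_surjective T hq)
  have hr : LinearMap.ker (q.baseChange T) = LinearMap.range (ι.baseChange T) :=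
    LinearMap.exact_iff.mp (show Function.Exact (ι.baseChange T) (q.baseChange T) from lTensor_exact T hex hq)
  rw [hr] at hfg
  have := Module.Finite.iff_fg.mpr hfg
  exact Module.Finite.equiv (LinearEquiv.ofInjective (ι.baseChange T) hinj).symm

theorem finite_projective_iff_glueingPair (h : EtGlue.IsGlueingPair R R' f) :
    (Module.Finite R M ∧ Module.Projective R M) ↔
      (Module.Finite R' (R' ⊗[R] M) ∧ Module.Projective R' (R' ⊗[R] M)) ∧
      (Module.Finite (Localization.Away f) (LocalizedModule (Submonoid.powers f) M) ∧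
        Module.Projective (Localization.Away f) (LocalizedModule (Submonoid.powers f) M)) := by
  let e := LocalizedModule.equivTensorProduct (Submonoid.powers f) M
  constructor
  · rintro ⟨h1, h2⟩
    exact ⟨⟨inferInstance, inferInstance⟩, Module.Finite.equiv e.symm, Module.Projective.of_equiv e.symm⟩
  · rintro ⟨⟨h1, h2⟩, h3, h4⟩
    have hfin : Module.Finite R M := (finite_iff h.1 M).mpr ⟨h1, h3⟩
    have hflat : Module.Flat R M := (flat_iff_glueingPair M h).mpr ⟨inferInstance, inferInstance⟩
    obtain ⟨n, q, hq⟩ := Module.Finite.exists_fin' R M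
    let ι := (LinearMap.ker q).subtype
    have hex : Function.Exact ι q := LinearMap.exact_subtype_ker_map q
    have hι : Function.Injective ι := (LinearMap.ker q).injective_subtype
    have hinj : ∀ (T : Type u) [CommRing T] [Algebra R T], Function.Injective (ι.lTensor T) := fun T _ _ =>
      (LinearMap.lTensor_inj_iff_rTensor_inj T _).mpr (rTensor_injective_of_flat (Z := ↥(LinearMap.ker q)) (G := Fin n → R) (L := M) ι q hex hq hι T)
    have hp : Module.Projective (Localization.Away f) (Localization.Away f ⊗[R] M) := Module.Projective.of_equiv e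
    have f1 := finite_baseChange_ker (L := ↥(LinearMap.ker q)) (G := Fin n → R) (T := R') M ι q hex hq (hinj R')
    have f2 := finite_baseChange_ker (L := ↥(LinearMap.ker q)) (G := Fin n → R) (T := Localization.Away f) M ι q hex hq (hinj _)
    have : Module.Finite R ↥(LinearMap.ker q) := (finite_iff h.1 _).mpr
      ⟨f1, Module.Finite.equiv (LocalizedModule.equivTensorProduct (Submonoid.powers f) ↥(LinearMap.ker q)).symm⟩
    have : Module.FinitePresentation R M :=
      Module.finitePresentation_of_surjective q hq (Module.Finite.iff_fg.mp this)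
    exact ⟨hfin, Module.Flat.projective_of_finitePresentation⟩

/-- The `Tor₁(R', X)` criterion through a flat presentation of `X`. -/
theorem subsingleton_tor {X P : Type u} [AddCommGroup X] [Module R X] [AddCommGroup P] [Module R P] [Module.Flat R P]
    (p : P →ₗ[R] X) (hp : Function.Surjective p) (h : Function.Injective ((LinearMap.ker p).subtype.lTensor R')) :
    Subsingleton (DRing.Tor R 1 R' X) := by
  let q : (R' →₀ R) →ₗ[R] R' := Finsupp.linearCombination R id
  have hq : Function.Surjective q := fun c => ⟨Finsupp.single c 1, by simp [q]⟩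
  exact ModuleCat.subsingleton_of_isZero ((TorBridge.isZero_tor_one_iff X R' q hq).mpr
    ((TorBridge.rTensor_injective_iff_lTensor_injective p hp q hq).mpr h))

theorem injective_lTensor_ker (h : EtGlue.IsGlueingPair R R' f) (p : G →ₗ[R] M)
    (hG : ∀ m : G, (∃ n : ℕ, f ^ n • m = 0) → (1 : R') ⊗ₜ[R] m = 0 → m = 0)
    (hker : ∀ x : R' ⊗[R] LinearMap.ker p, (LinearMap.ker p).subtype.lTensor R' x = 0 → ∃ n : ℕ, f ^ n • x = 0) :
    Function.Injective ((LinearMap.ker p).subtype.lTensor R') :=
  injective_lTensor (L := ↥(LinearMap.ker p)) (G := G) h (Submodule.subtype _) (Submodule.injective_subtype _) hG hker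

theorem tor_one_torsion (h : EtGlue.IsGlueingPair R R' f) (X : Type u) [AddCommGroup X] [Module R X]
    (hX : ∀ m : X, ∃ n : ℕ, f ^ n • m = 0) : Subsingleton (DRing.Tor R 1 R' X) := by
  classical
  let p : (X →₀ R) →ₗ[R] X := Finsupp.linearCombination R id
  let ιp : ↥(LinearMap.ker p) →ₗ[R] (X →₀ R) := (LinearMap.ker p).subtype
  refine subsingleton_tor p (fun c => ⟨Finsupp.single c 1, by simp [p]⟩)
    (injective_lTensor_ker X h p (hF_finsupp h X) fun x hx => ?_)
  obtain ⟨S, rfl⟩ := TensorProduct.exists_finset x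
  choose n hn using hX
  let s : Finset X := S.biUnion fun i => i.2.1.support
  let N : ℕ := s.sup n
  let g₀ : (X →₀ R) →ₗ[R] X →₀ R :=
    Finsupp.linearCombination R fun a => if a ∈ s then f ^ N • Finsupp.single a (1 : R) else 0
  have hg₀ : ∀ z, g₀ z ∈ LinearMap.ker p := fun z => by
    induction z using Finsupp.induction_linear with
    | zero => simp
    | add a b ha hb => rw [map_add]; exact add_mem ha hb
    | single a c =>
      simp only [g₀, Finsupp.linearCombination_single]
      refine Submodule.smul_mem _ c ?_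
      split_ifs with ha
      · obtain ⟨k, hk⟩ := Nat.exists_eq_add_of_le (Finset.le_sup (f := n) ha)
        rw [LinearMap.mem_ker, map_smul, show p (Finsupp.single a (1 : R)) = a by simp [p],
          show N = k + n a from hk.trans (add_comm _ _), pow_add, mul_smul, hn, smul_zero]
      · exact zero_mem _
  let g : (X →₀ R) →ₗ[R] ↥(LinearMap.ker p) := g₀.codRestrict _ hg₀
  have hgk : ∀ i ∈ S, g (i.2 : X →₀ R) = f ^ N • i.2 := fun i hi => Subtype.ext (by
    show g₀ i.2.1 = f ^ N • i.2.1
    simp only [g₀, Finsupp.linearCombination_apply]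
    conv_rhs => rw [← Finsupp.sum_single i.2.1, Finsupp.smul_sum]
    refine Finsupp.sum_congr fun a ha => ?_
    rw [if_pos (Finset.mem_biUnion.mpr ⟨i, hi, ha⟩), smul_comm, Finsupp.smul_single_one])
  refine ⟨N, ?_⟩
  have := congrArg (g.lTensor R') hx
  rw [map_zero] at this
  rw [← this, map_sum, map_sum, Finset.smul_sum]
  exact Finset.sum_congr rfl fun i hi => by
    rw [LinearMap.lTensor_tmul, LinearMap.lTensor_tmul, ← tmul_smul]; exact congrArg _ (hgk i hi).symm

theorem tor_one_quotient_of_torsion (h : EtGlue.IsGlueingPair R R' f) {X : Type u} [AddCommGroup X] [Module R X]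
    (p : R →ₗ[R] X) (hp : Function.Surjective p) (hK : ∀ a : R, p a = 0 → ∃ n : ℕ, f ^ n * a = 0) :
    Subsingleton (DRing.Tor R 1 R' X) :=
  subsingleton_tor p hp (injective_lTensor (L := ↥(LinearMap.ker p)) (G := R) h (Submodule.subtype _) (LinearMap.ker p).injective_subtype
    (fun m hm hm' => ((isGlueingPair_iff h.1).mp h).1 m hm (by
      have := congrArg (TensorProduct.rid R R') hm'
      simpa [Algebra.algebraMap_eq_smul_one] using this))
    fun x _ => exists_pow_smul_eq_zero_tensor (fun a => by
      obtain ⟨n, hn⟩ := hK a.1 a.2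
      exact ⟨n, Subtype.ext hn⟩) x)

end Groth.Agent.EtGlue7
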