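import Mathlib
import Groth.Prelude.Def_EtGlue
import Groth.Agent.EtGlue7.Basic
import Groth.Agent.EtGlue7.Flat

/-!
# Glueing pairs and algebras: surjective, finite type, flat, finite presentation, étale
-/

noncomputable section

namespace Groth.Agent.EtGlue7

universe u

open TensorProduct

attribute [local instance] Algebra.TensorProduct.rightAlgebra

variable {R R' : Type u} [CommRing R] [CommRing R'] [Algebra R R'] {f : R}

section RightBaseChange

variable (R R') (A : Type u) [CommRing A] [Algebra R A] (X : Type u) [AddCommGroup X] [Module R X] [Module A X]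
  [IsScalarTower R A X]

theorem one_tmul_smul (a : A) (b : R' ⊗[R] A) : a • b = ((1 : R') ⊗ₜ[R] a) * b := rfl

/-- The comparison `(R' ⊗_R A) ⊗_A X ≅ R' ⊗_R X`. -/
def tensorA : (R' ⊗[R] A) ⊗[A] X ≃ₗ[R] R' ⊗[R] X :=
  (TensorProduct.comm A _ X).restrictScalars R ≪≫ₗ
    (TensorProduct.congr (LinearEquiv.refl A X) (Algebra.TensorProduct.commRight R A R').symm.toLinearEquiv).restrictScalars R ≪≫ₗ
    (AlgebraTensorModule.cancelBaseChange R A A X R').restrictScalars R ≪≫ₗ TensorProduct.comm R X R'

theorem tensorA_tmul (r : R') (a : A) (x : X) : tensorA R R' A X ((r ⊗ₜ[R] a) ⊗ₜ[A] x) = r ⊗ₜ[R] (a • x) := by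
  simp [tensorA]

theorem tensorA_natural {Y : Type u} [AddCommGroup Y] [Module R Y] [Module A Y] [IsScalarTower R A Y] (g : X →ₗ[A] Y)
    (z : (R' ⊗[R] A) ⊗[A] X) :
    tensorA R R' A Y (g.lTensor (R' ⊗[R] A) z) = (g.restrictScalars R).lTensor R' (tensorA R R' A X z) := by
  induction z with
  | zero => simp
  | tmul w x =>
    induction w with
    | zero => simp
    | tmul r a => simp [tensorA_tmul]
    | add v w hv hw => simp only [add_tmul, map_add, hv, hw]
  | add a b ha hb => simp only [map_add, ha, hb]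

end RightBaseChange

theorem quotPow_tensor (hq : EtGlue.QuotPowBijective R R' f) (A : Type u) [CommRing A] [Algebra R A] :
    EtGlue.QuotPowBijective A (R' ⊗[R] A) (algebraMap R A f) := by
  intro n _
  have hmap : Ideal.map (algebraMap A (R' ⊗[R] A)) (Ideal.span {algebraMap R A f ^ n}) =
      Ideal.span {algebraMap R (R' ⊗[R] A) f ^ n} := by
    rw [Ideal.map_span, Set.image_singleton, map_pow, ← IsScalarTower.algebraMap_apply]
  constructor
  · rw [injective_iff_map_eq_zero]
    intro c hc
    obtain ⟨a, rfl⟩ := Ideal.Quotient.mk_surjective c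
    rw [Ideal.quotientMap_mk, Ideal.Quotient.eq_zero_iff_mem, hmap, Ideal.mem_span_singleton'] at hc
    obtain ⟨y, hy⟩ := hc
    obtain ⟨a₀, rfl⟩ := mem_smul_of_one_tmul hq A (m := a) (n := n) (y := y) (by
      rw [Algebra.smul_def, map_pow, mul_comm, hy]; rfl)
    rw [Ideal.Quotient.eq_zero_iff_mem, Ideal.mem_span_singleton']
    exact ⟨a₀, by rw [Algebra.smul_def, map_pow, mul_comm]⟩
  · intro c
    obtain ⟨x, rfl⟩ := Ideal.Quotient.mk_surjective c
    obtain ⟨a, y, rfl⟩ := exists_eq_one_tmul_add hq A n x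
    refine ⟨Ideal.Quotient.mk _ a, ?_⟩
    rw [Ideal.quotientMap_mk, Ideal.Quotient.eq, hmap, Ideal.mem_span_singleton']
    refine ⟨-y, ?_⟩
    rw [Algebra.smul_def, map_pow, Algebra.TensorProduct.right_algebraMap_apply]
    ring

theorem glueingPair_of_isGlueable (hq : EtGlue.QuotPowBijective R R' f) (A : Type u) [CommRing A] [Algebra R A]
    (hA : EtGlue.IsGlueable R R' f A) :
    EtGlue.IsGlueingPair A (R' ⊗[R] A) (algebraMap R A f) := by
  obtain ⟨h1, h2⟩ := torsion_of_isGlueable A hA
  have hs : ∀ (n : ℕ) (x : A), f ^ n • x = algebraMap R A f ^ n * x := fun n x => by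
    rw [Algebra.smul_def, map_pow]
  rw [isGlueingPair_iff (quotPow_tensor hq A)]
  refine ⟨fun x ⟨n, hn⟩ hx => h1 x ⟨n, (hs n x).trans hn⟩ hx, fun x' ⟨n, hn⟩ => ?_⟩
  obtain ⟨m, ⟨k, hk⟩, hm⟩ := h2 x' ⟨n, by
    rw [Algebra.smul_def, map_pow, IsScalarTower.algebraMap_apply R A (R' ⊗[R] A)]; exact hn⟩
  exact ⟨m, ⟨k, (hs k m).symm.trans hk⟩, hm⟩

theorem exists_fg_le_map_eq {S T : Type u} [CommRing S] [CommRing T] (g : S →+* T) (I : Ideal S) (h : (I.map g).FG) :
    ∃ J : Ideal S, J ≤ I ∧ J.FG ∧ J.map g = I.map g := by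
  classical
  obtain ⟨t, hts, ht⟩ := (Submodule.fg_span_iff_fg_span_finset_subset (R := T) (g '' I)).mp h
  obtain ⟨u, hu, rfl⟩ := Finset.subset_set_image_iff.mp hts
  refine ⟨Ideal.span u, Ideal.span_le.mpr hu, ⟨u, rfl⟩, ?_⟩
  rw [Ideal.map_span, ← Finset.coe_image]
  exact ht.symm

section Hom

variable (A B : Type u) [CommRing A] [CommRing B] [Algebra R A] [Algebra R B] [Algebra A B] [IsScalarTower R A B]

variable (R) in
/-- The base change to `R'` of the structure map `A → B`. -/
abbrev bcHom (R' : Type u) [CommRing R'] [Algebra R R'] : R' ⊗[R] A →ₐ[R] R' ⊗[R] B :=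
  Algebra.TensorProduct.map (AlgHom.id R R') (IsScalarTower.toAlgHom R A B)

/-- The localization at `f` of the structure map `A → B`. -/
abbrev locHom (f : R) : Localization.Away (algebraMap R A f) →+* Localization.Away (algebraMap A B (algebraMap R A f)) :=
  Localization.awayMap (algebraMap A B) (algebraMap R A f)

variable {A B}

theorem exists_pow_smul_eq_of_loc_eq {b w : B} {k : ℕ}
    (h : algebraMap B (Localization.Away (algebraMap A B (algebraMap R A f))) (algebraMap A B (algebraMap R A f) ^ k * b) =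
      algebraMap B (Localization.Away (algebraMap A B (algebraMap R A f))) w) :
    ∃ n j : ℕ, f ^ n • b = algebraMap A B (algebraMap R A f ^ j) * w := by
  obtain ⟨⟨_, j, rfl⟩, hj⟩ := (IsLocalization.eq_iff_exists (Submonoid.powers (algebraMap A B (algebraMap R A f))) _).mp h
  refine ⟨j + k, j, ?_⟩
  rw [Algebra.smul_def, map_pow (algebraMap R B), IsScalarTower.algebraMap_apply R A B, pow_add, mul_assoc,
    map_pow (algebraMap A B)]
  exact hj

theorem locHom_algebraMap (a : A) :
    locHom A B f (algebraMap A _ a) = algebraMap B _ (algebraMap A B a) :=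
  IsLocalization.map_eq _ a

theorem isLocalization_locHom (f : R) :
    IsLocalization (Algebra.algebraMapSubmonoid B (Submonoid.powers (algebraMap R A f)))
      (Localization.Away (algebraMap A B (algebraMap R A f))) := by
  rw [show Algebra.algebraMapSubmonoid B (Submonoid.powers (algebraMap R A f)) =
    Submonoid.powers (algebraMap A B (algebraMap R A f)) from Submonoid.map_powers (algebraMap A B) (algebraMap R A f)]
  infer_instance

theorem surjective_iff (hq : EtGlue.QuotPowBijective R R' f) :
    Function.Surjective (algebraMap A B) ↔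
      Function.Surjective (locHom A B f) ∧ Function.Surjective (bcHom R A B R') := by
  constructor
  · intro h
    refine ⟨fun z => ?_, TensorProduct.map_surjective Function.surjective_id h⟩
    obtain ⟨b, ⟨_, k, rfl⟩, rfl⟩ := IsLocalization.exists_mk'_eq (Submonoid.powers (algebraMap A B (algebraMap R A f))) z
    obtain ⟨a, rfl⟩ := h b
    refine ⟨IsLocalization.mk' _ a (⟨algebraMap R A f ^ k, k, rfl⟩ : Submonoid.powers (algebraMap R A f)), ?_⟩
    refine (IsLocalization.map_mk' _ _ _).trans ?_
    congr 1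
    exact Subtype.ext (map_pow _ _ _)
  · rintro ⟨h1, h2⟩
    have htop : LinearMap.range (IsScalarTower.toAlgHom R A B).toLinearMap = ⊤ := by
      refine eq_top_of_glue hq B _ (fun b => ?_) (fun y => ?_)
      · obtain ⟨z, hz⟩ := h1 (algebraMap B _ b)
        obtain ⟨a, ⟨_, k, rfl⟩, rfl⟩ := IsLocalization.exists_mk'_eq (Submonoid.powers (algebraMap R A f)) z
        obtain ⟨n, j, hn⟩ := exists_pow_smul_eq_of_loc_eq (A := A) (f := f) (b := b) (w := algebraMap A B a) (k := k) (by
          rw [map_mul, ← hz, ← map_pow (algebraMap A B), ← locHom_algebraMap, ← locHom_algebraMap, ← map_mul]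
          exact congrArg _ (IsLocalization.mk'_spec' _ a (⟨algebraMap R A f ^ k, k, rfl⟩ : Submonoid.powers (algebraMap R A f))))
        exact ⟨n, algebraMap R A f ^ j * a, by rw [hn, ← map_mul]; rfl⟩
      · obtain ⟨x, rfl⟩ := h2 y
        induction x with
        | zero => exact ⟨0, by simp⟩
        | tmul r a => exact ⟨r ⊗ₜ ⟨algebraMap A B a, a, rfl⟩, by simp⟩
        | add u v hu hv =>
          obtain ⟨u', hu'⟩ := hu
          obtain ⟨v', hv'⟩ := hv
          exact ⟨u' + v', by rw [map_add, hu', hv', map_add]⟩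
    exact LinearMap.range_eq_top.mp htop

theorem finiteType_locHom (f : R) (h : (algebraMap A B).FiniteType) : (locHom A B f).FiniteType := by
  have h2 : ((algebraMap B (Localization.Away (algebraMap A B (algebraMap R A f)))).comp (algebraMap A B)).FiniteType :=
    RingHom.FiniteType.comp (RingHom.finiteType_algebraMap.mpr inferInstance) h
  have h3 : ((algebraMap B (Localization.Away (algebraMap A B (algebraMap R A f)))).comp (algebraMap A B)) =
      (locHom A B f).comp (algebraMap A _) := (IsLocalization.map_comp _).symm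
  rw [h3] at h2
  exact RingHom.FiniteType.of_comp_finiteType h2

theorem finiteType_bcHom (R' : Type u) [CommRing R'] [Algebra R R'] (h : (algebraMap A B).FiniteType) :
    (bcHom R A B R').toRingHom.FiniteType := by
  classical
  have : Algebra.FiniteType A B := RingHom.finiteType_algebraMap.mp h
  obtain ⟨g, hg⟩ := this.out
  let : Algebra (R' ⊗[R] A) (R' ⊗[R] B) := (bcHom R A B R').toRingHom.toAlgebra
  refine ⟨g.image fun b => (1 : R') ⊗ₜ[R] b, eq_top_iff.mpr fun z _ => ?_⟩
  set S := Algebra.adjoin (R' ⊗[R] A) ((g.image fun b => (1 : R') ⊗ₜ[R] b : Finset (R' ⊗[R] B)) : Set (R' ⊗[R] B))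
  have hmem : ∀ c : R' ⊗[R] A, bcHom R A B R' c ∈ S := fun c => S.algebraMap_mem c
  have hone : ∀ b : B, (1 : R') ⊗ₜ[R] b ∈ S := fun b => by
    have hb : b ∈ Algebra.adjoin A (g : Set B) := hg ▸ Algebra.mem_top
    induction hb using Algebra.adjoin_induction with
    | mem x hx => exact Algebra.subset_adjoin (by simp; exact ⟨x, hx, rfl⟩)
    | algebraMap a =>
      rw [show (1 : R') ⊗ₜ[R] algebraMap A B a = bcHom R A B R' (1 ⊗ₜ a) by simp]
      exact hmem _
    | add x y _ _ hx hy => rw [tmul_add]; exact add_mem hx hy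
    | mul x y _ _ hx hy =>
      rw [show (1 : R') ⊗ₜ[R] (x * y) = (1 ⊗ₜ x) * (1 ⊗ₜ y) by simp]
      exact mul_mem hx hy
  induction z with
  | zero => exact zero_mem _
  | add x y hx hy => exact add_mem (hx trivial) (hy trivial)
  | tmul r b =>
    rw [show r ⊗ₜ[R] b = bcHom R A B R' (r ⊗ₜ 1) * ((1 : R') ⊗ₜ[R] b) by simp]
    exact mul_mem (hmem _) (hone b)

theorem finiteType_iff (hq : EtGlue.QuotPowBijective R R' f) :
    (algebraMap A B).FiniteType ↔ (locHom A B f).FiniteType ∧ (bcHom R A B R').toRingHom.FiniteType := by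
  classical
  refine ⟨fun h => ⟨finiteType_locHom f h, finiteType_bcHom R' h⟩, fun ⟨h1, h2⟩ => ?_⟩
  let fA := algebraMap R A f
  let Bf := Localization.Away (algebraMap A B fA)
  let : Algebra (Localization.Away fA) Bf := (locHom A B f).toAlgebra
  let : Algebra (R' ⊗[R] A) (R' ⊗[R] B) := (bcHom R A B R').toRingHom.toAlgebra
  obtain ⟨g, hg⟩ := (show Algebra.FiniteType (Localization.Away fA) Bf from h1).out
  obtain ⟨g', hg'⟩ := (show Algebra.FiniteType (R' ⊗[R] A) (R' ⊗[R] B) from h2).out
  choose b s hbs using fun z : g => IsLocalization.exists_mk'_eq (Submonoid.powers (algebraMap A B fA)) z.1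
  choose F hF using fun z : g' => TensorProduct.exists_finset z.1
  let G : Finset B := Finset.univ.image b ∪ Finset.univ.biUnion fun z : g' => (F z).image Prod.snd
  let B₀ := Algebra.adjoin A (G : Set B)
  suffices hB : ∀ x : B, x ∈ B₀ from
    RingHom.finiteType_algebraMap.mpr ⟨⟨G, eq_top_iff.mpr fun x _ => hB x⟩⟩
  have htop : Subalgebra.toSubmodule (B₀.restrictScalars R) = ⊤ := by
    refine eq_top_of_glue hq B _ (fun x => ?_) (fun y => ?_)
    · have key : ∀ z ∈ Algebra.adjoin (Localization.Away fA) (g : Set Bf), ∃ k : ℕ, ∃ w ∈ B₀,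
          algebraMap B Bf (algebraMap A B fA ^ k) * z = algebraMap B Bf w := by
        intro z hz
        induction hz using Algebra.adjoin_induction with
        | mem z hz =>
          obtain ⟨k, hk⟩ := (s ⟨z, hz⟩).2
          refine ⟨k, b ⟨z, hz⟩, Algebra.subset_adjoin (by simp [G]), ?_⟩
          conv_lhs => rw [show z = _ from (hbs ⟨z, hz⟩).symm, show algebraMap A B fA ^ k = _ from hk]
          exact IsLocalization.mk'_spec' _ _ _
        | algebraMap c =>
          obtain ⟨a, ⟨_, k, rfl⟩, rfl⟩ := IsLocalization.exists_mk'_eq (Submonoid.powers fA) c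
          refine ⟨k, algebraMap A B a, B₀.algebraMap_mem a, ?_⟩
          rw [← map_pow (algebraMap A B), ← locHom_algebraMap, ← locHom_algebraMap]
          show locHom A B f _ * locHom A B f _ = _
          rw [← map_mul]
          exact congrArg _ (IsLocalization.mk'_spec' _ a (⟨fA ^ k, k, rfl⟩ : Submonoid.powers fA))
        | add u v _ _ hu hv =>
          obtain ⟨k, w, hw, e⟩ := hu
          obtain ⟨k', w', hw', e'⟩ := hv
          refine ⟨k + k', algebraMap A B (fA ^ k') * w + algebraMap A B (fA ^ k) * w',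
            add_mem (mul_mem (B₀.algebraMap_mem _) hw) (mul_mem (B₀.algebraMap_mem _) hw'), ?_⟩
          simp only [map_add, map_mul, map_pow, pow_add] at e e' ⊢
          linear_combination algebraMap B Bf (algebraMap A B fA) ^ k' * e + algebraMap B Bf (algebraMap A B fA) ^ k * e'
        | mul u v _ _ hu hv =>
          obtain ⟨k, w, hw, e⟩ := hu
          obtain ⟨k', w', hw', e'⟩ := hv
          refine ⟨k + k', w * w', mul_mem hw hw', ?_⟩
          rw [map_mul, ← e, ← e', pow_add, map_mul]
          ring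
      obtain ⟨k, w, hw, e⟩ := key (algebraMap B Bf x) (hg ▸ Algebra.mem_top)
      rw [← map_mul] at e
      obtain ⟨n, j, hn⟩ := exists_pow_smul_eq_of_loc_eq e
      refine ⟨n, ?_⟩
      rw [hn]
      exact B₀.mul_mem (B₀.algebraMap_mem _) hw
    · let Φ₀ : R' ⊗[R] ↥(B₀.restrictScalars R) →ₐ[R] R' ⊗[R] B :=
        Algebra.TensorProduct.map (AlgHom.id R R') (B₀.restrictScalars R).val
      suffices hy : y ∈ Φ₀.range by exact hy
      have hy : y ∈ Algebra.adjoin (R' ⊗[R] A) (g' : Set (R' ⊗[R] B)) := hg' ▸ Algebra.mem_top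
      induction hy using Algebra.adjoin_induction with
      | mem z hz =>
        rw [show z = _ from hF ⟨z, hz⟩]
        refine sum_mem fun q hq' => ?_
        exact ⟨q.1 ⊗ₜ ⟨q.2, Algebra.subset_adjoin (Finset.mem_coe.mpr (Finset.mem_union_right _
          (Finset.mem_biUnion.mpr ⟨⟨z, hz⟩, Finset.mem_univ _, Finset.mem_image.mpr ⟨q, hq', rfl⟩⟩)))⟩, rfl⟩
      | algebraMap c =>
        show bcHom R A B R' c ∈ Φ₀.range
        induction c with
        | zero => rw [map_zero]; exact zero_mem _
        | tmul r a => exact ⟨r ⊗ₜ ⟨algebraMap A B a, B₀.algebraMap_mem a⟩, rfl⟩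
        | add u v hu hv => rw [map_add]; exact add_mem hu hv
      | add u v _ _ hu hv => exact add_mem hu hv
      | mul u v _ _ hu hv => exact mul_mem hu hv
  intro x
  have : x ∈ Subalgebra.toSubmodule (B₀.restrictScalars R) := htop ▸ Submodule.mem_top
  exact this

variable (A B) in
/-- The comparison `(R' ⊗ A) ⊗_A B ≅ R' ⊗ B`, linear over `R' ⊗ A`. -/
def tensorAB [Algebra (R' ⊗[R] A) (R' ⊗[R] B)]
    (h : ∀ c, algebraMap (R' ⊗[R] A) (R' ⊗[R] B) c = bcHom R A B R' c) :
    (R' ⊗[R] A) ⊗[A] B ≃ₗ[R' ⊗[R] A] R' ⊗[R] B :=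
  { (tensorA R R' A B).toAddEquiv with
    map_smul' := fun w z => by
      show tensorA R R' A B (w • z) = w • tensorA R R' A B z
      induction z with
      | zero => simp
      | add u v hu hv => simp only [smul_add, map_add, hu, hv]
      | tmul v b =>
        rw [TensorProduct.smul_tmul']
        induction v with
        | zero => simp
        | add u v hu hv => simp only [smul_add, add_tmul, map_add, hu, hv]
        | tmul r a =>
          induction w with
          | zero => simp
          | add u v hu hv => simp only [add_smul, add_tmul, map_add, hu, hv]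
          | tmul r' a' =>
            simp only [smul_eq_mul, Algebra.TensorProduct.tmul_mul_tmul, tensorA_tmul, Algebra.smul_def, h, map_mul]
            simp [mul_assoc] }

theorem flat_iff (hq : EtGlue.QuotPowBijective R R' f) (hA : EtGlue.IsGlueable R R' f A) :
    (algebraMap A B).Flat ↔ (locHom A B f).Flat ∧ (bcHom R A B R').toRingHom.Flat := by
  let fA := algebraMap R A f
  let Bf := Localization.Away (algebraMap A B fA)
  let : Algebra (Localization.Away fA) Bf := (locHom A B f).toAlgebra
  let : Algebra (R' ⊗[R] A) (R' ⊗[R] B) := (bcHom R A B R').toRingHom.toAlgebra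
  have : IsScalarTower A (Localization.Away fA) Bf := .of_algebraMap_eq fun a => (locHom_algebraMap a).symm
  have := isLocalization_locHom (A := A) (B := B) f
  have : IsLocalizedModule (Submonoid.powers fA) (IsScalarTower.toAlgHom A B Bf).toLinearMap :=
    isLocalizedModule_iff_isLocalization.mpr this
  let e₁ : LocalizedModule (Submonoid.powers fA) B ≃ₗ[Localization.Away fA] Bf :=
    (IsLocalizedModule.iso (Submonoid.powers fA) (IsScalarTower.toAlgHom A B Bf).toLinearMap).extendScalarsOfIsLocalization
      (Submonoid.powers fA) (Localization.Away fA)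
  let e₂ := tensorAB A B (R := R) (R' := R') (fun _ => rfl)
  rw [RingHom.flat_algebraMap_iff, flat_iff_glueingPair B (glueingPair_of_isGlueable hq A hA), Module.Flat.equiv_iff e₁,
    Module.Flat.equiv_iff e₂, and_comm]
  rfl

theorem isPushout_bcHom [Algebra (R' ⊗[R] A) (R' ⊗[R] B)] [Algebra A (R' ⊗[R] B)] [IsScalarTower A (R' ⊗[R] A) (R' ⊗[R] B)]
    [IsScalarTower A B (R' ⊗[R] B)] (h : ∀ c, algebraMap (R' ⊗[R] A) (R' ⊗[R] B) c = bcHom R A B R' c) :
    Algebra.IsPushout A (R' ⊗[R] A) B (R' ⊗[R] B) :=
  ⟨IsBaseChange.of_equiv (tensorAB A B h) fun b => by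
    show tensorA R R' A B ((1 : R' ⊗[R] A) ⊗ₜ[A] b) = algebraMap B (R' ⊗[R] B) b
    rw [Algebra.TensorProduct.one_def, tensorA_tmul, one_smul]
    rfl⟩

theorem prop_bcHom (P : ∀ {S T : Type u} [CommRing S] [CommRing T], (S →+* T) → Prop)
    (hP : RingHom.IsStableUnderBaseChange P) (h : P (algebraMap A B)) : P (bcHom R A B R').toRingHom := by
  let : Algebra (R' ⊗[R] A) (R' ⊗[R] B) := (bcHom R A B R').toRingHom.toAlgebra
  let : Algebra A (R' ⊗[R] B) := ((algebraMap B (R' ⊗[R] B)).comp (algebraMap A B)).toAlgebra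
  have : IsScalarTower A (R' ⊗[R] A) (R' ⊗[R] B) := .of_algebraMap_eq fun a => by
    show _ = bcHom R A B R' ((1 : R') ⊗ₜ[R] a)
    simp [Algebra.TensorProduct.map_tmul]
    rfl
  have : IsScalarTower A B (R' ⊗[R] B) := .of_algebraMap_eq fun _ => rfl
  have : Algebra.IsPushout A (R' ⊗[R] A) B (R' ⊗[R] B) := isPushout_bcHom fun _ => rfl
  have : Algebra.IsPushout A B (R' ⊗[R] A) (R' ⊗[R] B) := .symm inferInstance
  exact hP A B (R' ⊗[R] A) (R' ⊗[R] B) h

theorem prop_locHom (P : ∀ {S T : Type u} [CommRing S] [CommRing T], (S →+* T) → Prop)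
    (hP : RingHom.IsStableUnderBaseChange P) (f : R) (h : P (algebraMap A B)) : P (locHom A B f) := by
  let : Algebra (Localization.Away (algebraMap R A f)) (Localization.Away (algebraMap A B (algebraMap R A f))) :=
    (locHom A B f).toAlgebra
  have : IsScalarTower A (Localization.Away (algebraMap R A f))
      (Localization.Away (algebraMap A B (algebraMap R A f))) :=
    .of_algebraMap_eq fun a => (locHom_algebraMap a).symm
  have := isLocalization_locHom (A := A) (B := B) f
  have : Algebra.IsPushout A B (Localization.Away (algebraMap R A f)) (Localization.Away (algebraMap A B (algebraMap R A f))) :=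
    Algebra.isPushout_of_isLocalization (Submonoid.powers (algebraMap R A f)) _ B _
  exact hP A B (Localization.Away (algebraMap R A f)) (Localization.Away (algebraMap A B (algebraMap R A f))) h

theorem formallyUnramified_of (hq : EtGlue.QuotPowBijective R R' f) (h1 : (locHom A B f).FormallyUnramified)
    (h2 : (bcHom R A B R').toRingHom.FormallyUnramified) : (algebraMap A B).FormallyUnramified := by
  let fA := algebraMap R A f
  let Bf := Localization.Away (algebraMap A B fA)
  let : Algebra (Localization.Away fA) Bf := (locHom A B f).toAlgebra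
  let : Algebra (R' ⊗[R] A) (R' ⊗[R] B) := (bcHom R A B R').toRingHom.toAlgebra
  have : IsScalarTower A (Localization.Away fA) Bf := .of_algebraMap_eq fun a => (locHom_algebraMap a).symm
  let : Algebra A (R' ⊗[R] B) := ((algebraMap B (R' ⊗[R] B)).comp (algebraMap A B)).toAlgebra
  have : IsScalarTower A (R' ⊗[R] A) (R' ⊗[R] B) := .of_algebraMap_eq fun a => by
    show _ = bcHom R A B R' ((1 : R') ⊗ₜ[R] a)
    simp [Algebra.TensorProduct.map_tmul]
    rfl
  have : IsScalarTower A B (R' ⊗[R] B) := .of_algebraMap_eq fun _ => rfl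
  have := isLocalization_locHom (A := A) (B := B) f
  have : Algebra.IsPushout A B (Localization.Away fA) Bf :=
    Algebra.isPushout_of_isLocalization (Submonoid.powers fA) (Localization.Away fA) B Bf
  have : Algebra.IsPushout A (Localization.Away fA) B Bf := .symm inferInstance
  have : Algebra.IsPushout A (R' ⊗[R] A) B (R' ⊗[R] B) := isPushout_bcHom fun _ => rfl
  have : Algebra.FormallyUnramified (Localization.Away fA) Bf := h1
  have : Algebra.FormallyUnramified (R' ⊗[R] A) (R' ⊗[R] B) := h2
  have hsub := quotPow_tensor hq B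
  have : Subsingleton Ω[B⁄A] := subsingleton_of_forall_eq 0 fun ω => by
    refine eq_zero_of_torsion hsub Ω[B⁄A] (fun ω => ?_)
      ((KaehlerDifferential.tensorKaehlerEquiv A (R' ⊗[R] A) B (R' ⊗[R] B)).injective (Subsingleton.elim _ _))
    rw [IsScalarTower.algebraMap_apply R A B, exists_pow_smul_eq_zero_iff_away]
    exact (KaehlerDifferential.tensorKaehlerEquiv A (Localization.Away fA) B Bf).injective (Subsingleton.elim _ _)
  exact RingHom.formallyUnramified_algebraMap.mpr ⟨this⟩

theorem finitePresentation_of (hq : EtGlue.QuotPowBijective R R' f) (hflat : Module.Flat A B)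
    (h1 : (locHom A B f).FinitePresentation) (h2 : (bcHom R A B R').toRingHom.FinitePresentation) :
    (algebraMap A B).FinitePresentation := by
  have hft : (algebraMap A B).FiniteType := (finiteType_iff hq).mpr ⟨RingHom.FiniteType.of_finitePresentation h1, RingHom.FiniteType.of_finitePresentation h2⟩
  have : Algebra.FiniteType A B := RingHom.finiteType_algebraMap.mp hft
  obtain ⟨n, π, hπ⟩ := Algebra.FiniteType.iff_quotient_mvPolynomial''.mp this
  let P := MvPolynomial (Fin n) A
  let πR : P →ₐ[R] B := π.restrictScalars R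
  let J : Ideal P := RingHom.ker π
  have hsurjP : (algebraMap A P).FiniteType := RingHom.finiteType_algebraMap.mpr inferInstance
  -- after base change to `R'`
  let Φ : R' ⊗[R] P →ₐ[R] R' ⊗[R] B := Algebra.TensorProduct.map (AlgHom.id R R') πR
  have hΦ : Function.Surjective Φ := TensorProduct.map_surjective Function.surjective_id hπ
  have hc : Φ.toRingHom.comp (bcHom R A P R').toRingHom = (bcHom R A B R').toRingHom :=
    congrArg AlgHom.toRingHom (show Φ.comp (bcHom R A P R') = bcHom R A B R' from
      Algebra.TensorProduct.ext' fun r a => by simp [Φ, πR])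
  have hker' : (J.map (Algebra.TensorProduct.includeRight : P →ₐ[R] R' ⊗[R] P).toRingHom).FG := by
    have hfp : Φ.toRingHom.FinitePresentation :=
      RingHom.FinitePresentation.of_comp_finiteType (bcHom R A P R').toRingHom (hc ▸ h2) (finiteType_bcHom R' hsurjP)
    let : Algebra (R' ⊗[R] P) (R' ⊗[R] B) := Φ.toRingHom.toAlgebra
    have : Algebra.FinitePresentation (R' ⊗[R] P) (R' ⊗[R] B) := hfp
    have h := Algebra.FinitePresentation.ker_fG_of_surjective (Algebra.ofId (R' ⊗[R] P) (R' ⊗[R] B)) hΦ
    have hk : RingHom.ker Φ = J.map (Algebra.TensorProduct.includeRight : P →ₐ[R] R' ⊗[R] P) :=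
      Algebra.TensorProduct.lTensor_ker πR hπ
    rw [show J.map (Algebra.TensorProduct.includeRight : P →ₐ[R] R' ⊗[R] P).toRingHom = RingHom.ker Φ from hk.symm]
    exact h
  -- after inverting `f`
  let fA := algebraMap R A f
  let Pf := Localization.Away (algebraMap A P fA)
  let Bf := Localization.Away (algebraMap A B fA)
  have hmap : Submonoid.map π.toRingHom (Submonoid.powers (algebraMap A P fA)) = Submonoid.powers (algebraMap A B fA) := by
    rw [Submonoid.map_powers]
    exact congrArg _ (π.commutes fA)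
  let χ : Pf →+* Bf := IsLocalization.map Bf π.toRingHom (M := Submonoid.powers (algebraMap A P fA))
    (hmap ▸ Submonoid.le_comap_map _)
  have hχ : Function.Surjective χ := by
    intro z
    obtain ⟨b, s, rfl⟩ := IsLocalization.exists_mk'_eq (Submonoid.powers (algebraMap A B fA)) z
    obtain ⟨x, rfl⟩ := hπ b
    obtain ⟨s', hs'⟩ : (s : B) ∈ Submonoid.map π.toRingHom (Submonoid.powers (algebraMap A P fA)) := by rw [hmap]; exact s.2
    refine ⟨IsLocalization.mk' _ x ⟨s', hs'.1⟩, (IsLocalization.map_mk' _ _ _).trans ?_⟩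
    congr 1
    exact Subtype.ext hs'.2
  have hc' : χ.comp (locHom A P f) = locHom A B f := IsLocalization.ringHom_ext (Submonoid.powers fA) (RingHom.ext fun a => by
    show χ (locHom A P f (algebraMap A _ a)) = locHom A B f (algebraMap A _ a)
    rw [locHom_algebraMap, locHom_algebraMap, IsLocalization.map_eq]
    exact congrArg _ (π.commutes a))
  have hker : (J.map (algebraMap P Pf)).FG := by
    have hfp : χ.FinitePresentation :=
      RingHom.FinitePresentation.of_comp_finiteType (locHom A P f) (hc' ▸ h1) (finiteType_locHom f hsurjP)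
    let : Algebra Pf Bf := χ.toAlgebra
    have : Algebra.FinitePresentation Pf Bf := hfp
    have h := Algebra.FinitePresentation.ker_fG_of_surjective (Algebra.ofId Pf Bf) hχ
    rw [show J.map (algebraMap P Pf) = RingHom.ker χ from (IsLocalization.ker_map (S := Pf) Bf π.toRingHom hmap).symm]
    exact h
  obtain ⟨J₁, hJ₁, hfg₁, e₁⟩ := exists_fg_le_map_eq _ J hker
  obtain ⟨J₂, hJ₂, hfg₂, e₂⟩ := exists_fg_le_map_eq _ J hker'
  let J₀ := J₁ ⊔ J₂
  have hJ₀ : J₀ ≤ J := sup_le hJ₁ hJ₂
  -- injectivity of `R' ⊗ J → R' ⊗ P`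
  let ιA : ↥(J.restrictScalars A) →ₗ[A] P := (J.restrictScalars A).subtype
  have hinjA : Function.Injective (ιA.lTensor (R' ⊗[R] A)) := (LinearMap.lTensor_inj_iff_rTensor_inj _ ιA).mpr
    (rTensor_injective_of_flat (Z := ↥(J.restrictScalars A)) (G := P) (L := B) ιA π.toLinearMap
      π.toLinearMap.exact_subtype_ker_map hπ (Submodule.injective_subtype _) (R' ⊗[R] A))
  have hinj : Function.Injective ((ιA.restrictScalars R).lTensor R') := by
    intro x y hxy
    obtain ⟨x, rfl⟩ := (tensorA R R' A ↥(J.restrictScalars A)).surjective x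
    obtain ⟨y, rfl⟩ := (tensorA R R' A ↥(J.restrictScalars A)).surjective y
    rw [← tensorA_natural, ← tensorA_natural] at hxy
    rw [hinjA ((tensorA R R' A P).injective hxy)]
  let W : Submodule R ↥(J.restrictScalars A) := (J₀.restrictScalars R).comap (ιA.restrictScalars R)
  have hW : W = ⊤ := by
    refine eq_top_of_glue hq _ W (fun x => ?_) (fun x => ?_)
    · have hx : algebraMap P Pf x.1 ∈ J₁.map (algebraMap P Pf) := e₁ ▸ Ideal.mem_map_of_mem _ x.2
      obtain ⟨_, ⟨k, rfl⟩, hk⟩ := (IsLocalization.algebraMap_mem_map_algebraMap_iff (Submonoid.powers (algebraMap A P fA)) Pf _ _).mp hx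
      refine ⟨k, (le_sup_left : J₁ ≤ J₀) ?_⟩
      show f ^ k • x.1 ∈ J₁
      rw [Algebra.smul_def, map_pow, IsScalarTower.algebraMap_apply R A P]
      exact hk
    · have hx : (ιA.restrictScalars R).lTensor R' x ∈
          (J₀.map (Algebra.TensorProduct.includeRight : P →ₐ[R] R' ⊗[R] P)).restrictScalars R := by
        have h' : (ιA.restrictScalars R).lTensor R' x ∈
            J.map (Algebra.TensorProduct.includeRight : P →ₐ[R] R' ⊗[R] P).toRingHom := by
          induction x with
          | zero => simp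
          | tmul r a =>
            rw [LinearMap.lTensor_tmul, show r ⊗ₜ[R] (ιA.restrictScalars R a) = (r ⊗ₜ[R] (1 : P)) * ((1 : R') ⊗ₜ[R] a.1) by
              simp [ιA]]
            exact Ideal.mul_mem_left _ _ (Ideal.mem_map_of_mem
              (Algebra.TensorProduct.includeRight : P →ₐ[R] R' ⊗[R] P).toRingHom a.2)
          | add u v hu hv => rw [map_add]; exact add_mem hu hv
        rw [← e₂] at h'
        exact Ideal.map_mono (le_sup_right : J₂ ≤ J₀) h'
      rw [Ideal.map_includeRight_eq] at hx
      obtain ⟨w, hw⟩ := hx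
      let incl : ↥(J₀.restrictScalars R) →ₗ[R] ↥W :=
        LinearMap.codRestrict W (LinearMap.codRestrict ((J.restrictScalars A).restrictScalars R) (Submodule.subtype _)
          fun z => hJ₀ z.2) fun z => z.2
      refine ⟨incl.lTensor R' w, hinj ?_⟩
      rw [← LinearMap.lTensor_comp_apply, ← LinearMap.lTensor_comp_apply, ← hw]
      rfl
  have hle : J ≤ J₀ := fun x hx => by
    have : (⟨x, hx⟩ : ↥(J.restrictScalars A)) ∈ W := hW ▸ Submodule.mem_top
    exact this
  exact RingHom.finitePresentation_algebraMap.mpr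
    (Algebra.FinitePresentation.of_surjective hπ (by
      rw [show RingHom.ker π.toRingHom = J₀ from le_antisymm hle hJ₀]
      exact Submodule.FG.sup hfg₁ hfg₂))

theorem flat_finitePresentation_iff (hq : EtGlue.QuotPowBijective R R' f) (hA : EtGlue.IsGlueable R R' f A) :
    ((algebraMap A B).Flat ∧ (algebraMap A B).FinitePresentation) ↔
      ((locHom A B f).Flat ∧ (locHom A B f).FinitePresentation) ∧
        ((bcHom R A B R').toRingHom.Flat ∧ (bcHom R A B R').toRingHom.FinitePresentation) := by
  constructor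
  · rintro ⟨h1, h2⟩
    obtain ⟨a, b⟩ := (flat_iff hq hA).mp h1
    refine ⟨⟨a, ?_⟩, b, ?_⟩
    · exact prop_locHom (fun g => g.FinitePresentation) RingHom.finitePresentation_isStableUnderBaseChange f h2
    · exact prop_bcHom (fun g => g.FinitePresentation) RingHom.finitePresentation_isStableUnderBaseChange h2
  · rintro ⟨⟨a1, a2⟩, b1, b2⟩
    have h := (flat_iff hq hA).mpr ⟨a1, b1⟩
    exact ⟨h, finitePresentation_of hq (RingHom.flat_algebraMap_iff.mp h) a2 b2⟩

theorem etale_iff (hq : EtGlue.QuotPowBijective R R' f) (hA : EtGlue.IsGlueable R R' f A) :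
    (algebraMap A B).Etale ↔ (locHom A B f).Etale ∧ (bcHom R A B R').toRingHom.Etale := by
  refine ⟨fun h => ⟨prop_locHom (fun g => g.Etale) RingHom.Etale.isStableUnderBaseChange f h,
    prop_bcHom (fun g => g.Etale) RingHom.Etale.isStableUnderBaseChange h⟩, fun ⟨h1, h2⟩ => ?_⟩
  rw [RingHom.Etale.iff_flat_and_formallyUnramified] at h1 h2 ⊢
  obtain ⟨hf, hfp⟩ := (flat_finitePresentation_iff hq hA).mpr ⟨⟨h1.1, h1.2.2⟩, h2.1, h2.2.2⟩
  exact ⟨hf, formallyUnramified_of hq h1.2.1 h2.2.1, hfp⟩

end Hom

end Groth.Agent.EtGlue7
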