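import Mathlib
import Groth.Prelude.Def_EtGlue

/-!
# Formal glueing along a flat map `R → S` with `R/I = S/IS`
-/

noncomputable section

namespace Groth.Agent.EtGlue7.Formal

universe u

open TensorProduct

variable {R S : Type u} [CommRing R] [CommRing S] [Algebra R S] {I : Ideal R}

/-- Every element is killed by a power of `I`. -/
def IsTors (I : Ideal R) (M : Type u) [AddCommGroup M] [Module R M] : Prop :=
  ∀ m : M, ∃ n : ℕ, ∀ a ∈ I ^ n, a • m = 0

section Torsion

variable [Module.Flat R S]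
  (hq : Function.Bijective (Ideal.quotientMap (I.map (algebraMap R S)) (algebraMap R S) Ideal.le_comap_map))

include hq

theorem bijective_mk_of_killed (M : Type u) [AddCommGroup M] [Module R M] (hM : ∀ a ∈ I, ∀ m : M, a • m = 0) :
    Function.Bijective (TensorProduct.mk R S M 1) := by
  let e := RingEquiv.ofBijective _ hq
  let ρ : S →ₐ[R] R ⧸ I :=
    AlgHom.mk (e.symm.toRingHom.comp (Ideal.Quotient.mk _)) (fun a => (RingEquiv.symm_apply_eq e).mpr rfl)
  let Θ : S ⊗[R] M →ₗ[R] M ⧸ (I • ⊤ : Submodule R M) :=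
    (quotTensorEquivQuotSMul M I).toLinearMap ∘ₗ LinearMap.rTensor M ρ.toLinearMap
  refine ⟨(injective_iff_map_eq_zero _).mpr fun m hm => ?_, fun x => ?_⟩
  · have hm' : (1 : S) ⊗ₜ[R] m = 0 := hm
    have h1 : Θ ((1 : S) ⊗ₜ[R] m) = Submodule.Quotient.mk m := by
      show quotTensorEquivQuotSMul M I (ρ 1 ⊗ₜ[R] m) = _
      rw [map_one, ← map_one (Ideal.Quotient.mk I), quotTensorEquivQuotSMul_mk_tmul, one_smul]
    rw [hm', map_zero, eq_comm, Submodule.Quotient.mk_eq_zero] at h1
    have hb : (I • ⊤ : Submodule R M) ≤ ⊥ := Submodule.smul_le.mpr fun a ha y _ => by simp [hM a ha y]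
    simpa using hb h1
  · induction x with
    | zero => exact ⟨0, map_zero _⟩
    | add u v hu hv =>
      obtain ⟨a, rfl⟩ := hu
      obtain ⟨b, rfl⟩ := hv
      exact ⟨a + b, map_add _ _ _⟩
    | tmul r m =>
      obtain ⟨c, hc⟩ := hq.2 (Ideal.Quotient.mk _ r)
      obtain ⟨a, rfl⟩ := Ideal.Quotient.mk_surjective c
      rw [Ideal.quotientMap_mk, Ideal.Quotient.eq] at hc
      have h0 : ∀ i ∈ I.map (algebraMap R S), ∀ s : S, (s * i) ⊗ₜ[R] m = 0 := by
        intro i hi
        rw [Ideal.map] at hi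
        induction hi using Submodule.span_induction with
        | mem y hy =>
          obtain ⟨b, hb, rfl⟩ := hy
          intro s
          rw [mul_comm, ← Algebra.smul_def, smul_tmul, hM b hb m, tmul_zero]
        | zero => simp
        | add y z _ _ hy hz => intro s; rw [mul_add, add_tmul, hy, hz, add_zero]
        | smul c y _ hy => intro s; rw [smul_eq_mul, ← mul_assoc]; exact hy _
      refine ⟨a • m, ?_⟩
      rw [TensorProduct.mk_apply, tmul_smul, TensorProduct.smul_tmul', ← Algebra.algebraMap_eq_smul_one,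
        ← sub_eq_zero, ← sub_tmul]
      simpa using h0 _ hc 1

theorem bijective_mk_of_pow_killed (n : ℕ) : ∀ (M : Type u) [AddCommGroup M] [Module R M],
    (∀ a ∈ I ^ n, ∀ m : M, a • m = 0) → Function.Bijective (TensorProduct.mk R S M 1) := by
  induction n with
  | zero =>
    intro M _ _ hM
    have : Subsingleton M := subsingleton_of_forall_eq 0 fun m => by
      simpa using hM 1 (by simp) m
    exact ⟨fun a b _ => Subsingleton.elim a b, fun x => ⟨0, by
      induction x with
      | zero => simp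
      | tmul r m => simp [Subsingleton.elim m 0]
      | add u v hu hv => simp only [map_zero] at hu hv; simp [← hu, ← hv]⟩⟩
  | succ n ih =>
    intro M _ _ hM
    let N : Submodule R M := I • ⊤
    have hN := ih ↥N fun a ha m => by
      obtain ⟨m, hm⟩ := m
      apply Subtype.ext
      show a • m = 0
      refine Submodule.smul_induction_on hm (fun b hb y _ => ?_) (fun y z hy hz => by rw [smul_add, hy, hz, add_zero])
      rw [← mul_smul]
      exact hM _ (by rw [pow_succ]; exact Ideal.mul_mem_mul ha hb) y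
    have hQ := bijective_mk_of_killed hq (M ⧸ N) fun a ha q => by
      obtain ⟨y, rfl⟩ := Submodule.mkQ_surjective N q
      rw [← map_smul, Submodule.mkQ_apply, Submodule.Quotient.mk_eq_zero]
      exact Submodule.smul_mem_smul ha Submodule.mem_top
    refine ⟨(injective_iff_map_eq_zero _).mpr fun m hm => ?_, fun x => ?_⟩
    · have hm' : (1 : S) ⊗ₜ[R] m = 0 := hm
      have h1 : N.mkQ m = 0 := hQ.1 (by
        rw [map_zero, TensorProduct.mk_apply, ← LinearMap.lTensor_tmul, hm', map_zero])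
      rw [Submodule.mkQ_apply, Submodule.Quotient.mk_eq_zero] at h1
      have h2 : (⟨m, h1⟩ : N) = 0 := hN.1 (by
        apply Module.Flat.lTensor_preserves_injective_linearMap (M := S) N.subtype N.injective_subtype
        rw [map_zero (TensorProduct.mk R S ↥N 1), map_zero, TensorProduct.mk_apply, LinearMap.lTensor_tmul]
        exact hm')
      exact congrArg Subtype.val h2
    · obtain ⟨q, hq'⟩ := hQ.2 (N.mkQ.lTensor S x)
      obtain ⟨m, rfl⟩ := Submodule.mkQ_surjective N q
      obtain ⟨y, hy⟩ := (lTensor_exact S (LinearMap.exact_subtype_mkQ N) (Submodule.mkQ_surjective N) _).mp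
        (show N.mkQ.lTensor S (x - (1 : S) ⊗ₜ[R] m) = 0 by
          rw [map_sub, LinearMap.lTensor_tmul, ← hq', TensorProduct.mk_apply, sub_self])
      obtain ⟨z, rfl⟩ := hN.2 y
      refine ⟨m + z, ?_⟩
      rw [TensorProduct.mk_apply, LinearMap.lTensor_tmul] at hy
      rw [TensorProduct.mk_apply, tmul_add]
      simp only [Submodule.coe_subtype] at hy
      rw [hy, add_sub_cancel]

theorem bijective_mk (M : Type u) [AddCommGroup M] [Module R M] (hM : IsTors I M) :
    Function.Bijective (TensorProduct.mk R S M 1) := by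
  have hN : ∀ m : M, Function.Bijective (TensorProduct.mk R S ↥(R ∙ m) 1) := fun m => by
    obtain ⟨n, hn⟩ := hM m
    refine bijective_mk_of_pow_killed hq n _ fun a ha y => ?_
    obtain ⟨c, hc⟩ := Submodule.mem_span_singleton.mp y.2
    exact Subtype.ext (by rw [Submodule.coe_smul, ← hc, smul_comm, hn a ha, smul_zero]; rfl)
  refine ⟨(injective_iff_map_eq_zero _).mpr fun m hm => ?_, fun x => ?_⟩
  · have hm' : (1 : S) ⊗ₜ[R] m = 0 := hm
    have h2 : (⟨m, Submodule.mem_span_singleton_self m⟩ : ↥(R ∙ m)) = 0 := (hN m).1 (by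
      apply Module.Flat.lTensor_preserves_injective_linearMap (M := S) (R ∙ m).subtype (Submodule.injective_subtype _)
      rw [map_zero (TensorProduct.mk R S ↥(R ∙ m) 1), map_zero, TensorProduct.mk_apply, LinearMap.lTensor_tmul]
      exact hm')
    exact congrArg Subtype.val h2
  · induction x with
    | zero => exact ⟨0, map_zero _⟩
    | tmul r m =>
      obtain ⟨y, hy⟩ := (hN m).2 (r ⊗ₜ ⟨m, Submodule.mem_span_singleton_self m⟩)
      refine ⟨y, ?_⟩
      have := congrArg ((R ∙ m).subtype.lTensor S) hy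
      simpa using this
    | add u v hu hv =>
      obtain ⟨a, rfl⟩ := hu
      obtain ⟨b, rfl⟩ := hv
      exact ⟨a + b, map_add _ _ _⟩

omit hq in
theorem lift_comp_mk {C : Type u} [AddCommGroup C] [Module R C] [Module S C] [IsScalarTower R S C] (c : C) :
    ((LinearMap.id : C →ₗ[R] C).liftBaseChange S) ((1 : S) ⊗ₜ[R] c) = c := by
  simp

theorem bijective_mult {C : Type u} [AddCommGroup C] [Module R C] [Module S C] [IsScalarTower R S C] (hC : IsTors I C) :
    Function.Bijective ((LinearMap.id : C →ₗ[R] C).liftBaseChange S) := by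
  refine ⟨(injective_iff_map_eq_zero _).mpr fun x hx => ?_, fun c => ⟨_, lift_comp_mk c⟩⟩
  obtain ⟨c, rfl⟩ := (bijective_mk hq C hC).2 x
  rw [TensorProduct.mk_apply, lift_comp_mk] at hx
  rw [hx, map_zero]

/-- The torsion elements of `X`. -/
def tors (I : Ideal R) (X : Type u) [AddCommGroup X] [Module R X] : Submodule R X where
  carrier := {m | ∃ n : ℕ, ∀ a ∈ I ^ n, a • m = 0}
  zero_mem' := ⟨0, fun a _ => smul_zero a⟩
  add_mem' := by
    rintro m m' ⟨n, hn⟩ ⟨n', hn'⟩
    refine ⟨n + n', fun a ha => ?_⟩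
    rw [smul_add, hn a (Ideal.pow_le_pow_right (Nat.le_add_right n n') ha),
      hn' a (Ideal.pow_le_pow_right (Nat.le_add_left n' n) ha), add_zero]
  smul_mem' := by
    rintro c m ⟨n, hn⟩
    exact ⟨n, fun a ha => by rw [smul_comm, hn a ha, smul_zero]⟩

theorem eq_zero_of_tors {X : Type u} [AddCommGroup X] [Module R X] {m : X} (hm : m ∈ tors I X)
    (h : (1 : S) ⊗ₜ[R] m = 0) : m = 0 := by
  have h2 : (⟨m, hm⟩ : tors I X) = 0 := (bijective_mk hq (tors I X) fun y => by
      obtain ⟨n, hn⟩ := y.2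
      exact ⟨n, fun a ha => Subtype.ext (hn a ha)⟩).1 (by
    apply Module.Flat.lTensor_preserves_injective_linearMap (M := S) (tors I X).subtype (Submodule.injective_subtype _)
    rw [map_zero (TensorProduct.mk R S ↥(tors I X) 1), map_zero, TensorProduct.mk_apply, LinearMap.lTensor_tmul]
    exact h)
  exact congrArg Subtype.val h2

/-- A torsion element of `S ⊗ X` comes from a torsion element of `X`, for finitely generated `I`. -/
theorem exists_tors_eq (hI : I.FG) {X : Type u} [AddCommGroup X] [Module R X] {x : S ⊗[R] X}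
    (hx : x ∈ tors I (S ⊗[R] X)) : ∃ m ∈ tors I X, (1 : S) ⊗ₜ[R] m = x := by
  classical
  obtain ⟨g, hg⟩ := id hI
  let d : X →ₗ[R] (a : g) → LocalizedModule (Submonoid.powers (a : R)) X :=
    LinearMap.pi fun a => LocalizedModule.mkLinearMap _ X
  have hker : LinearMap.ker d = tors I X := by
    ext m
    constructor
    · intro hm
      have hJ : I ≤ Ideal.radical (LinearMap.ker (LinearMap.toSpanSingleton R X m)) := by
        rw [← hg, Submodule.span_le]
        intro a ha
        obtain ⟨⟨_, k, rfl⟩, hk⟩ := (IsLocalizedModule.eq_zero_iff (Submonoid.powers a)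
          (LocalizedModule.mkLinearMap (Submonoid.powers a) X)).mp (congrFun hm ⟨a, ha⟩)
        exact ⟨k, hk⟩
      obtain ⟨n, hn⟩ := Ideal.exists_pow_le_of_le_radical_of_fg hJ hI
      exact ⟨n, fun a ha => hn ha⟩
    · rintro ⟨n, hn⟩
      refine funext fun a => (IsLocalizedModule.eq_zero_iff (Submonoid.powers (a : R))
        (LocalizedModule.mkLinearMap (Submonoid.powers (a : R)) X)).mpr ⟨⟨_, n, rfl⟩, ?_⟩
      exact hn _ (Ideal.pow_mem_pow (hg ▸ Submodule.subset_span a.2) n)
  obtain ⟨n, hn⟩ := hx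
  have h0 : d.lTensor S x = 0 := by
    apply (TensorProduct.piRight R R S (fun a : g => LocalizedModule (Submonoid.powers (a : R)) X)).injective
    rw [map_zero]
    refine funext fun a => ?_
    have hbij : Function.Bijective ((LinearMap.lsmul R (LocalizedModule (Submonoid.powers (a : R)) X) ((a : R) ^ n)).lTensor S) :=
      (LinearEquiv.lTensor S (LinearEquiv.ofBijective _ ((Module.End.isUnit_iff _).mp (IsLocalizedModule.map_units
        (LocalizedModule.mkLinearMap (Submonoid.powers (a : R)) X) (⟨(a : R) ^ n, n, rfl⟩ : Submonoid.powers (a : R)))))).bijective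
    rw [show LinearMap.lsmul R (LocalizedModule (Submonoid.powers (a : R)) X) ((a : R) ^ n) = (a : R) ^ n • LinearMap.id from
      LinearMap.ext fun _ => rfl, LinearMap.lTensor_smul, LinearMap.lTensor_id] at hbij
    apply hbij.1
    simp only [LinearMap.smul_apply, LinearMap.id_apply, Pi.zero_apply, smul_zero]
    have := congrArg (fun w => TensorProduct.piRight R R S (fun a : g => LocalizedModule (Submonoid.powers (a : R)) X) (d.lTensor S w) a)
      (hn _ (Ideal.pow_mem_pow (hg ▸ Submodule.subset_span a.2) n : (a : R) ^ n ∈ I ^ n))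
    simpa using this
  obtain ⟨y, rfl⟩ := (Module.Flat.lTensor_exact S (LinearMap.exact_subtype_ker_map d) x).mp h0
  obtain ⟨z, rfl⟩ := (bijective_mk hq (LinearMap.ker d) fun z => by
    obtain ⟨k, hk⟩ : (z : X) ∈ tors I X := hker ▸ z.2
    exact ⟨k, fun a ha => Subtype.ext (hk a ha)⟩).2 y
  exact ⟨z.1, hker ▸ z.2, by simp⟩

end Torsion

section Glue

variable {N : Type u} [AddCommGroup N] [Module R N] {t : ℕ} (f : Fin t → R)

/-- The localizations of `N` at the `f i`. -/
abbrev Locs (N : Type u) [AddCommGroup N] [Module R N] := (i : Fin t) → LocalizedModule (Submonoid.powers (f i)) N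

/-- `N → ∏ N_{f i}`. -/
abbrev toLocs (N : Type u) [AddCommGroup N] [Module R N] : N →ₗ[R] Locs f N :=
  LinearMap.pi fun i => LocalizedModule.mkLinearMap (Submonoid.powers (f i)) N

variable (hI : Ideal.span (Set.range f) = I)
include hI

theorem exists_pow_le {J : Ideal R} (h : ∀ i, ∃ k, f i ^ k ∈ J) : ∃ n : ℕ, I ^ n ≤ J := by
  refine Ideal.exists_pow_le_of_le_radical_of_fg ?_ (hI ▸ Submodule.fg_span (Set.finite_range f))
  rw [← hI, Ideal.span_le]
  rintro _ ⟨i, rfl⟩
  exact h i

theorem mem_tors_iff {X : Type u} [AddCommGroup X] [Module R X] (x : X) :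
    x ∈ tors I X ↔ ∀ i, ∃ k : ℕ, f i ^ k • x = 0 := by
  constructor
  · rintro ⟨n, hn⟩ i
    exact ⟨n, hn _ (Ideal.pow_mem_pow (hI ▸ Submodule.subset_span ⟨i, rfl⟩) n)⟩
  · intro h
    obtain ⟨n, hn⟩ := exists_pow_le f hI (J := LinearMap.ker (LinearMap.toSpanSingleton R X x)) h
    exact ⟨n, fun a ha => hn ha⟩

theorem ker_toLocs {m : N} (hm : toLocs f N m = 0) : m ∈ tors I N := by
  rw [mem_tors_iff f hI]
  intro i
  obtain ⟨⟨_, k, rfl⟩, hk⟩ := (IsLocalizedModule.eq_zero_iff (Submonoid.powers (f i))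
    (LocalizedModule.mkLinearMap (Submonoid.powers (f i)) N)).mp (congrFun hm i)
  exact ⟨k, hk⟩

variable [Module.Flat R S]
  (hq : Function.Bijective (Ideal.quotientMap (I.map (algebraMap R S)) (algebraMap R S) Ideal.le_comap_map))
include hq

/-- If `z` is torsion modulo `N` and `1 ⊗ z` comes from `x`, then a unique `μ : N` lifts `x` and `z`. -/
theorem exists_glue (x : S ⊗[R] N) (z : Locs f N) (hz : (toLocs f N).range.mkQ z ∈ tors I (Locs f N ⧸ (toLocs f N).range))
    (h : (toLocs f N).lTensor S x = (1 : S) ⊗ₜ[R] z) : ∃ μ : N, (1 : S) ⊗ₜ[R] μ = x ∧ toLocs f N μ = z := by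
  have h1 : (toLocs f N).range.mkQ z = 0 := eq_zero_of_tors hq hz (by
    rw [← LinearMap.lTensor_tmul, ← h, ← LinearMap.lTensor_comp_apply, LinearMap.range_mkQ_comp, LinearMap.lTensor_zero,
      LinearMap.zero_apply])
  obtain ⟨μ₀, hμ₀⟩ := (Submodule.Quotient.mk_eq_zero _).mp h1
  have h2 : (toLocs f N).lTensor S (x - (1 : S) ⊗ₜ[R] μ₀) = 0 := by
    rw [map_sub, LinearMap.lTensor_tmul, hμ₀, h, sub_self]
  obtain ⟨y, hy⟩ := (Module.Flat.lTensor_exact S (LinearMap.exact_subtype_ker_map (toLocs f N)) _).mp h2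
  obtain ⟨k, rfl⟩ := (bijective_mk hq (LinearMap.ker (toLocs f N)) fun k => by
    obtain ⟨n, hn⟩ := ker_toLocs f hI k.2
    exact ⟨n, fun a ha => Subtype.ext (hn a ha)⟩).2 y
  refine ⟨μ₀ + k.1, ?_, ?_⟩
  · rw [TensorProduct.mk_apply, LinearMap.lTensor_tmul, Submodule.coe_subtype] at hy
    rw [tmul_add, hy, add_sub_cancel]
  · rw [map_add, hμ₀, show toLocs f N k.1 = 0 from k.2, add_zero]

omit hI in
theorem toLocs_injective_of_tors {m : N} (hm : m ∈ tors I N) (h : (1 : S) ⊗ₜ[R] m = 0) : m = 0 :=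
  eq_zero_of_tors hq hm h

omit hI hq in
theorem bijective_smul_lTensor (i : Fin t) (k : ℕ) :
    Function.Bijective fun y : S ⊗[R] LocalizedModule (Submonoid.powers (f i)) N => f i ^ k • y := by
  have h := (LinearEquiv.lTensor S (LinearEquiv.ofBijective _ ((Module.End.isUnit_iff _).mp (IsLocalizedModule.map_units
    (LocalizedModule.mkLinearMap (Submonoid.powers (f i)) N) (⟨f i ^ k, k, rfl⟩ : Submonoid.powers (f i)))))).bijective
  convert h using 1
  funext y
  induction y with
  | zero => simp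
  | tmul a b => simp [← tmul_smul, ← map_pow, Module.algebraMap_end_apply]
  | add a b ha hb => simp only [smul_add, map_add, ha, hb]

omit hI hq in
theorem eq_of_loc_eq (n : ℕ) (m : Fin t → N) (x : S ⊗[R] N) (i : Fin t)
    (hx : EtGlue.locOfTensor R S (f i) N x =
      EtGlue.tensorOfLoc R S (f i) N (LocalizedModule.mk (m i) ⟨f i ^ n, Submonoid.pow_mem _ (Submonoid.mem_powers (f i)) n⟩)) :
    (LocalizedModule.mkLinearMap (Submonoid.powers (f i)) N).lTensor S x =
      (1 : S) ⊗ₜ[R] LocalizedModule.mk (m i) (⟨f i ^ n, Submonoid.pow_mem _ (Submonoid.mem_powers (f i)) n⟩ : Submonoid.powers (f i)) := by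
  let z := LocalizedModule.mk (m i) (⟨f i ^ n, Submonoid.pow_mem _ (Submonoid.mem_powers (f i)) n⟩ : Submonoid.powers (f i))
  have hspec : f i ^ n • z = LocalizedModule.mkLinearMap (Submonoid.powers (f i)) N (m i) := by
    rw [LocalizedModule.smul'_mk, LocalizedModule.mkLinearMap_apply]
    exact LocalizedModule.mk_cancel ⟨f i ^ n, _⟩ (m i)
  have h := congrArg (fun y => f i ^ n • y) hx
  rw [← map_smul, ← map_smul, show f i ^ n • LocalizedModule.mk (m i) _ = _ from hspec, IsLocalizedModule.map_apply] at h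
  obtain ⟨⟨_, k, rfl⟩, hk⟩ := (IsLocalizedModule.eq_iff_exists (Submonoid.powers (f i))
    (LocalizedModule.mkLinearMap (Submonoid.powers (f i)) (S ⊗[R] N))).mp h
  apply (bijective_smul_lTensor f i (k + n)).1
  simp only [pow_add, mul_smul]
  rw [← tmul_smul, hspec, ← map_smul, ← map_smul]
  have := congrArg ((LocalizedModule.mkLinearMap (Submonoid.powers (f i)) N).lTensor S) hk
  rw [show ((f i) ^ k) • ((1 : S) ⊗ₜ[R] LocalizedModule.mkLinearMap (Submonoid.powers (f i)) N (m i)) =
    (LocalizedModule.mkLinearMap (Submonoid.powers (f i)) N).lTensor S (f i ^ k • (1 : S) ⊗ₜ[R] m i) by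
      rw [map_smul, LinearMap.lTensor_tmul]]
  exact this

theorem glueing_complex_exact (M : Type u) [AddCommGroup M] [Module R M] :
    (∀ m : M, (1 : S) ⊗ₜ[R] m = 0 →
        (∀ i : Fin t, LocalizedModule.mkLinearMap (Submonoid.powers (f i)) M m = 0) → m = 0) ∧
    ∀ (x : S ⊗[R] M) (N : ℕ) (m : Fin t → M),
      (∀ i : Fin t, EtGlue.locOfTensor R S (f i) M x =
          EtGlue.tensorOfLoc R S (f i) M (LocalizedModule.mk (m i) ⟨f i ^ N, Submonoid.pow_mem _ (Submonoid.mem_powers (f i)) N⟩)) →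
      (∀ i j : Fin t, ∃ e : ℕ, (f i * f j) ^ e • (f j ^ N • m i - f i ^ N • m j) = 0) →
        ∃ μ : M, (1 : S) ⊗ₜ[R] μ = x ∧
          ∀ i : Fin t, LocalizedModule.mkLinearMap (Submonoid.powers (f i)) M μ =
            LocalizedModule.mk (m i) ⟨f i ^ N, Submonoid.pow_mem _ (Submonoid.mem_powers (f i)) N⟩ := by
  refine ⟨fun m h1 h2 => eq_zero_of_tors hq (ker_toLocs f hI (funext h2)) h1, fun x n m hx hc => ?_⟩
  let z : Locs f M := fun i => LocalizedModule.mk (m i) ⟨f i ^ n, Submonoid.pow_mem _ (Submonoid.mem_powers (f i)) n⟩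
  have hspec : ∀ i, f i ^ n • z i = LocalizedModule.mkLinearMap (Submonoid.powers (f i)) M (m i) := fun i => by
    show f i ^ n • LocalizedModule.mk _ _ = _
    rw [LocalizedModule.smul'_mk, LocalizedModule.mkLinearMap_apply]
    exact LocalizedModule.mk_cancel ⟨f i ^ n, _⟩ (m i)
  have hz : (toLocs f M).range.mkQ z ∈ tors I (Locs f M ⧸ (toLocs f M).range) := by
    rw [mem_tors_iff f hI]
    intro j
    -- on each localization `f j ^ N • z` is the image of `m j` up to a power of `f j`
    choose e he using fun i => hc i j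
    let E := Finset.univ.sup e
    refine ⟨E + n, ?_⟩
    rw [← map_smul, Submodule.mkQ_apply, Submodule.Quotient.mk_eq_zero]
    refine ⟨f j ^ E • m j, funext fun i => ?_⟩
    show LocalizedModule.mkLinearMap (Submonoid.powers (f i)) M (f j ^ E • m j) = f j ^ (E + n) • z i
    obtain ⟨k, hk⟩ := Nat.exists_eq_add_of_le (Finset.le_sup (f := e) (Finset.mem_univ i) : e i ≤ E)
    apply IsLocalizedModule.smul_injective (LocalizedModule.mkLinearMap (Submonoid.powers (f i)) M)
      (⟨f i ^ (e i + n), e i + n, rfl⟩ : Submonoid.powers (f i))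
    show f i ^ (e i + n) • LocalizedModule.mkLinearMap (Submonoid.powers (f i)) M (f j ^ E • m j) = f i ^ (e i + n) • (f j ^ (E + n) • z i)
    rw [← map_smul, smul_smul (f i ^ (e i + n)) _ (m j), smul_smul (f i ^ (e i + n)) _ (z i),
      show f i ^ (e i + n) * f j ^ (E + n) = f i ^ e i * f j ^ (E + n) * f i ^ n by ring,
      mul_smul (f i ^ e i * f j ^ (E + n)) (f i ^ n) (z i), hspec, ← map_smul, ← sub_eq_zero, ← map_sub]
    convert map_zero (LocalizedModule.mkLinearMap (Submonoid.powers (f i)) M) using 2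
    have := congrArg (fun y : M => f j ^ k • y) (he i)
    simp only [smul_zero, smul_sub, smul_smul] at this ⊢
    rw [← neg_eq_zero, neg_sub, ← this]
    have hk' : E = e i + k := hk
    rw [hk']
    congr 1
    · congr 1; ring
    · congr 1; ring
  obtain ⟨μ, hμ, hμ'⟩ := exists_glue f hI hq x z hz (by
    apply (TensorProduct.piRight R R S (fun i => LocalizedModule (Submonoid.powers (f i)) M)).injective
    funext i
    have : ∀ y : S ⊗[R] M, TensorProduct.piRight R R S (fun i => LocalizedModule (Submonoid.powers (f i)) M)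
        ((toLocs f M).lTensor S y) i = (LocalizedModule.mkLinearMap (Submonoid.powers (f i)) M).lTensor S y := fun y => by
      induction y with
      | zero => simp
      | tmul a b => simp [toLocs]
      | add a b ha hb => simp only [map_add, Pi.add_apply, ha, hb]
    rw [this]
    show _ = (1 : S) ⊗ₜ[R] z i
    exact eq_of_loc_eq f n m x i (hx i))
  exact ⟨μ, hμ, fun i => congrFun hμ' i⟩

end Glue

theorem exists_ker_lift [Module.Flat R S] {Y Z : Type u} [AddCommGroup Y] [Module R Y] [AddCommGroup Z] [Module R Z]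
    (g : Y →ₗ[R] Z) {x : S ⊗[R] Y} (h : g.lTensor S x = 0) :
    ∃ u : S ⊗[R] LinearMap.ker g, (LinearMap.ker g).subtype.lTensor S u = x :=
  (Module.Flat.lTensor_exact S (LinearMap.exact_subtype_ker_map g) x).mp h

section Maps

variable [Module.Flat R S]
  (hq : Function.Bijective (Ideal.quotientMap (I.map (algebraMap R S)) (algebraMap R S) Ideal.le_comap_map))

include hq

theorem formal_glueing_of_maps (N : Type u) [AddCommGroup N] [Module R N] (M' : Type u) [AddCommGroup M'] [Module S M']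
    (φ : M' →ₗ[S] S ⊗[R] N)
    (hker : ∀ x : M', φ x = 0 → ∃ n : ℕ, ∀ a ∈ I ^ n, algebraMap R S a • x = 0)
    (hcoker : ∀ y : S ⊗[R] N, ∃ n : ℕ, ∀ a ∈ I ^ n, algebraMap R S a • y ∈ LinearMap.range φ) :
    ∃ (M : Type u) (_ : AddCommGroup M) (_ : Module R M) (ψ : M →ₗ[R] N) (e : S ⊗[R] M ≃ₗ[S] M'),
      φ ∘ₗ e.toLinearMap = ψ.baseChange S := by
  let : Module R M' := Module.compHom M' (algebraMap R S)
  have : IsScalarTower R S M' := ⟨fun a b x => by
    rw [Algebra.smul_def, mul_smul]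
    rfl⟩
  let φR : M' →ₗ[R] S ⊗[R] N := φ.restrictScalars R
  let W : Submodule R (M' × N) :=
    LinearMap.eqLocus (φR ∘ₗ LinearMap.fst R M' N) (TensorProduct.mk R S N 1 ∘ₗ LinearMap.snd R M' N)
  let p : W →ₗ[R] M' := LinearMap.fst R M' N ∘ₗ W.subtype
  let ψ : W →ₗ[R] N := LinearMap.snd R M' N ∘ₗ W.subtype
  have hcomm : ∀ w : W, φ (p w) = (1 : S) ⊗ₜ[R] ψ w := fun w => w.2
  let Θ : S ⊗[R] W →ₗ[S] M' := p.liftBaseChange S
  have hΘ : φ ∘ₗ Θ = ψ.baseChange S := by
    refine TensorProduct.AlgebraTensorModule.ext fun s w => ?_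
    simp [Θ, hcomm, TensorProduct.smul_tmul']
  -- the cokernel of `ψ` maps isomorphically to that of `φ`
  let C := (S ⊗[R] N) ⧸ LinearMap.range φ
  have hC : IsTors I C := fun c => by
    obtain ⟨y, rfl⟩ := Submodule.mkQ_surjective _ c
    obtain ⟨n, hn⟩ := hcoker y
    refine ⟨n, fun a ha => ?_⟩
    rw [← algebraMap_smul S a, ← map_smul, Submodule.mkQ_apply, Submodule.Quotient.mk_eq_zero]
    exact hn a ha
  let γ : N →ₗ[R] C := (LinearMap.range φ).mkQ.restrictScalars R ∘ₗ TensorProduct.mk R S N 1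
  have hγ : ∀ y : S ⊗[R] N, (LinearMap.id : C →ₗ[R] C).liftBaseChange S (γ.lTensor S y) = (LinearMap.range φ).mkQ y := by
    intro y
    induction y with
    | zero => simp
    | tmul s n =>
      simp [γ]
      rw [← Submodule.Quotient.mk_smul, TensorProduct.smul_tmul', smul_eq_mul, mul_one]
    | add a b ha hb => simp only [map_add, ha, hb]
  have hexN : Function.Exact ψ γ := fun n => by
    constructor
    · intro hn
      obtain ⟨x, hx⟩ := (Submodule.Quotient.mk_eq_zero _).mp hn
      exact ⟨⟨(x, n), hx⟩, rfl⟩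
    · rintro ⟨w, rfl⟩
      exact (Submodule.Quotient.mk_eq_zero _).mpr ⟨p w, hcomm w⟩
  -- the kernel of `ψ` is torsion
  have hK : IsTors I (LinearMap.ker ψ) := fun w => by
    obtain ⟨n, hn⟩ := hker (p w.1) (by rw [hcomm, show ψ w.1 = 0 from w.2, tmul_zero])
    refine ⟨n, fun a ha => Subtype.ext (Subtype.ext (Prod.ext (hn a ha) ?_))⟩
    show a • ψ w.1 = 0
    rw [show ψ w.1 = 0 from w.2, smul_zero]
  refine ⟨W, inferInstance, inferInstance, ψ, LinearEquiv.ofBijective Θ ⟨?_, fun x => ?_⟩, hΘ⟩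
  · rw [injective_iff_map_eq_zero]
    intro t ht
    have h0 : ψ.lTensor S t = 0 := by
      have := congrArg φ ht
      rw [map_zero, ← LinearMap.comp_apply, hΘ] at this
      exact this
    obtain ⟨u, rfl⟩ := exists_ker_lift ψ h0
    obtain ⟨k, rfl⟩ := (bijective_mk hq (LinearMap.ker ψ) hK).2 u
    rw [TensorProduct.mk_apply, LinearMap.lTensor_tmul] at ht ⊢
    simp only [Θ, LinearMap.liftBaseChange_tmul, one_smul] at ht
    rw [show (LinearMap.ker ψ).subtype k = 0 from Subtype.ext (Prod.ext ht k.2), tmul_zero]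
  · have h0 : γ.lTensor S (φ x) = 0 := by
      apply (bijective_mult hq (C := C) hC).1
      rw [map_zero, hγ]
      exact (Submodule.Quotient.mk_eq_zero _).mpr ⟨x, rfl⟩
    obtain ⟨t, ht⟩ := (Module.Flat.lTensor_exact S hexN _).mp h0
    have h1 : φ (x - Θ t) = (1 : S) ⊗ₜ[R] (0 : N) := by
      rw [map_sub, ← LinearMap.comp_apply, hΘ, tmul_zero, sub_eq_zero]
      exact ht.symm
    refine ⟨t + (1 : S) ⊗ₜ[R] (⟨(x - Θ t, 0), h1⟩ : W), ?_⟩
    rw [map_add, show Θ ((1 : S) ⊗ₜ[R] (⟨(x - Θ t, 0), h1⟩ : W)) = x - Θ t by simp [Θ, p], add_sub_cancel]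

theorem extension_lift_of_torsion (hI : I.FG)
    (N M : Type u) [AddCommGroup N] [Module R N] [AddCommGroup M] [Module R M] (hM : IsTors I M)
    (E' : Type u) [AddCommGroup E'] [Module S E'] [Module R E'] [IsScalarTower R S E']
    (i' : S ⊗[R] N →ₗ[S] E') (p' : E' →ₗ[S] S ⊗[R] M)
    (hi' : Function.Injective i') (hp' : Function.Surjective p') (hex' : LinearMap.range i' = LinearMap.ker p') :
    ∃ (E : Type u) (_ : AddCommGroup E) (_ : Module R E) (i : N →ₗ[R] E) (p : E →ₗ[R] M) (g : E →ₗ[R] E'),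
      Function.Injective i ∧ Function.Surjective p ∧ LinearMap.range i = LinearMap.ker p ∧
      (∀ n : N, g (i n) = i' ((1 : S) ⊗ₜ[R] n)) ∧ (∀ e : E, p' (g e) = (1 : S) ⊗ₜ[R] p e) := by
  classical
  obtain ⟨G, hG⟩ := id hI
  let f : Fin G.card → R := fun i => (G.equivFin.symm i).1
  have hspan : Ideal.span (Set.range f) = I := by
    rw [show Set.range f = (G : Set R) from Set.ext fun a => ⟨fun ⟨i, hi⟩ => hi ▸ (G.equivFin.symm i).2,
      fun ha => ⟨G.equivFin ⟨a, ha⟩, by simp [f]⟩⟩]
    exact hG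
  have hbM := bijective_mk hq M hM
  let eM := LinearEquiv.ofBijective (TensorProduct.mk R S M 1) hbM
  have hptors : ∀ e : E', ∀ i, ∃ k : ℕ, f i ^ k • p' e = 0 := fun e i => by
    obtain ⟨m, hm⟩ := hbM.2 (p' e)
    obtain ⟨n, hn⟩ := hM m
    refine ⟨n, ?_⟩
    rw [← hm, ← map_smul, hn _ (Ideal.pow_mem_pow (hspan ▸ Submodule.subset_span ⟨i, rfl⟩) n), map_zero]
  have hpow : ∀ (e : E') (i : Fin G.card), ∃ (k : ℕ) (u : S ⊗[R] N), i' u = f i ^ k • e := fun e i => by
    obtain ⟨k, hk⟩ := hptors e i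
    have : f i ^ k • e ∈ LinearMap.range i' := by
      rw [hex', LinearMap.mem_ker, LinearMap.map_smul_of_tower, hk]
    exact ⟨k, this⟩
  -- extension of `S ⊗ N → S ⊗ N_{f i}` along `i'`
  have hext : ∀ i, ∃ L : E' →ₗ[R] S ⊗[R] LocalizedModule (Submonoid.powers (f i)) N,
      ∀ u, L (i' u) = (LocalizedModule.mkLinearMap (Submonoid.powers (f i)) N).lTensor S u := fun i => by
    let ι : S ⊗[R] N →ₗ[R] LocalizedModule (Submonoid.powers (f i)) E' :=
      LocalizedModule.mkLinearMap (Submonoid.powers (f i)) E' ∘ₗ i'.restrictScalars R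
    have : IsLocalizedModule (Submonoid.powers (f i)) ι :=
      { map_units := IsLocalizedModule.map_units (LocalizedModule.mkLinearMap (Submonoid.powers (f i)) E')
        surj := fun y => by
          obtain ⟨⟨e, ⟨_, a, rfl⟩⟩, he⟩ := IsLocalizedModule.surj (Submonoid.powers (f i))
            (LocalizedModule.mkLinearMap (Submonoid.powers (f i)) E') y
          obtain ⟨k, u, hu⟩ := hpow e i
          refine ⟨⟨u, ⟨f i ^ (k + a), k + a, rfl⟩⟩, ?_⟩
          show f i ^ (k + a) • y = LocalizedModule.mkLinearMap (Submonoid.powers (f i)) E' (i' u)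
          rw [hu, pow_add, mul_smul, map_smul]
          congr 1
        exists_of_eq := fun {u u'} h => by
          obtain ⟨c, hc⟩ := IsLocalizedModule.exists_of_eq (S := Submonoid.powers (f i))
            (f := LocalizedModule.mkLinearMap (Submonoid.powers (f i)) E') h
          refine ⟨c, hi' ?_⟩
          rw [Submonoid.smul_def, Submonoid.smul_def, LinearMap.map_smul_of_tower, LinearMap.map_smul_of_tower]
          exact hc }
    have hunits : ∀ c : Submonoid.powers (f i),
        IsUnit (algebraMap R (Module.End R (S ⊗[R] LocalizedModule (Submonoid.powers (f i)) N)) c) := by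
      rintro ⟨_, k, rfl⟩
      exact (Module.End.isUnit_iff _).mpr (bijective_smul_lTensor f i k)
    refine ⟨IsLocalizedModule.lift (Submonoid.powers (f i)) ι
      ((LocalizedModule.mkLinearMap (Submonoid.powers (f i)) N).lTensor S) hunits ∘ₗ
      LocalizedModule.mkLinearMap (Submonoid.powers (f i)) E', fun u => ?_⟩
    exact IsLocalizedModule.lift_apply (Submonoid.powers (f i)) ι _ hunits u
  choose L hL using hext
  let Q := TensorProduct.piRight R R S (fun i => LocalizedModule (Submonoid.powers (f i)) N)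
  let γ : E' →ₗ[R] S ⊗[R] Locs f N := Q.symm.toLinearMap ∘ₗ LinearMap.pi L
  have hγ : ∀ u, γ (i' u) = (toLocs f N).lTensor S u := fun u => by
    apply Q.injective
    rw [show Q (γ (i' u)) = fun i => L i (i' u) from Q.apply_symm_apply _]
    funext i
    rw [hL]
    clear hL
    induction u with
    | zero => simp
    | tmul a b => simp [Q, toLocs]
    | add a b ha hb => simp only [map_add, Pi.add_apply, ← ha, ← hb]
  let W : Submodule R (E' × Locs f N) :=
    LinearMap.eqLocus (γ ∘ₗ LinearMap.fst R E' (Locs f N)) (TensorProduct.mk R S (Locs f N) 1 ∘ₗ LinearMap.snd R E' (Locs f N))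
      ⊓ (tors I (Locs f N ⧸ (toLocs f N).range)).comap ((toLocs f N).range.mkQ ∘ₗ LinearMap.snd R E' (Locs f N))
  let i₀ : N →ₗ[R] E' × Locs f N := LinearMap.prod (i'.restrictScalars R ∘ₗ TensorProduct.mk R S N 1) (toLocs f N)
  have hi₀ : ∀ n, i₀ n ∈ W := fun n => ⟨by
      show γ (i' ((1 : S) ⊗ₜ[R] n)) = (1 : S) ⊗ₜ[R] toLocs f N n
      rw [hγ, LinearMap.lTensor_tmul], by
      show (toLocs f N).range.mkQ (toLocs f N n) ∈ tors I _
      rw [show (toLocs f N).range.mkQ (toLocs f N n) = 0 from (Submodule.Quotient.mk_eq_zero _).mpr ⟨n, rfl⟩]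
      exact zero_mem _⟩
  let g : W →ₗ[R] E' := LinearMap.fst R E' (Locs f N) ∘ₗ W.subtype
  let p : W →ₗ[R] M := eM.symm.toLinearMap ∘ₗ p'.restrictScalars R ∘ₗ g
  have hp : ∀ e : W, p' (g e) = (1 : S) ⊗ₜ[R] p e := fun e => (eM.apply_symm_apply (p' (g e))).symm
  refine ⟨W, inferInstance, inferInstance, i₀.codRestrict W hi₀, p, g, ?_, fun m => ?_, ?_, fun n => rfl, hp⟩
  · rw [injective_iff_map_eq_zero]
    intro n hn
    have h1 : i' ((1 : S) ⊗ₜ[R] n) = 0 := congrArg (fun w : W => w.1.1) hn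
    have h2 : toLocs f N n = 0 := congrArg (fun w : W => w.1.2) hn
    exact eq_zero_of_tors hq (ker_toLocs f hspan h2) (hi' (h1.trans (map_zero i').symm))
  · obtain ⟨e₀, he₀⟩ := hp' ((1 : S) ⊗ₜ[R] m)
    let X := Locs f N ⧸ (toLocs f N).range
    have hw : (toLocs f N).range.mkQ.lTensor S (γ e₀) ∈ tors I (S ⊗[R] X) := by
      rw [mem_tors_iff f hspan]
      intro i
      obtain ⟨k, u, hu⟩ := hpow e₀ i
      refine ⟨k, ?_⟩
      rw [← map_smul, ← map_smul, ← hu, hγ, ← LinearMap.lTensor_comp_apply, LinearMap.range_mkQ_comp,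
        LinearMap.lTensor_zero, LinearMap.zero_apply]
    obtain ⟨h, hh, hh'⟩ := exists_tors_eq hq hI hw
    obtain ⟨z, rfl⟩ := Submodule.mkQ_surjective _ h
    obtain ⟨y, hy⟩ := (lTensor_exact S (LinearMap.exact_map_mkQ_range (toLocs f N)) (Submodule.mkQ_surjective _) _).mp
      (show (toLocs f N).range.mkQ.lTensor S (γ e₀ - (1 : S) ⊗ₜ[R] z) = 0 by
        rw [map_sub, LinearMap.lTensor_tmul, hh', sub_self])
    refine ⟨⟨(e₀ - i' y, z), ?_, hh⟩, hbM.1 ?_⟩
    · show γ (e₀ - i' y) = (1 : S) ⊗ₜ[R] z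
      rw [map_sub, hγ, hy, sub_sub_cancel]
    · rw [TensorProduct.mk_apply, ← hp]
      show p' (e₀ - i' y) = _
      rw [map_sub, he₀, show p' (i' y) = 0 from LinearMap.mem_ker.mp (hex' ▸ LinearMap.mem_range_self i' y), sub_zero]
      rfl
  · apply le_antisymm
    · rintro _ ⟨n, rfl⟩
      rw [LinearMap.mem_ker]
      apply hbM.1
      rw [TensorProduct.mk_apply, ← hp, map_zero]
      exact LinearMap.mem_ker.mp (hex' ▸ LinearMap.mem_range_self i' ((1 : S) ⊗ₜ[R] n))
    · rintro ⟨⟨e, z⟩, he, hz⟩ hw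
      have h0 : p' e = 0 := by
        have := hp ⟨⟨e, z⟩, he, hz⟩
        rw [LinearMap.mem_ker.mp hw, tmul_zero] at this
        exact this
      obtain ⟨y, hy⟩ : e ∈ LinearMap.range i' := hex' ▸ LinearMap.mem_ker.mpr h0
      obtain ⟨μ, hμ, hμ'⟩ := exists_glue f hspan hq y z hz (by rw [← hγ, hy]; exact he)
      exact ⟨μ, Subtype.ext (Prod.ext (show i' ((1 : S) ⊗ₜ[R] μ) = e by rw [hμ, hy]) hμ')⟩

end Maps

end Groth.Agent.EtGlue7.Formal
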