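import Mathlib
import Groth.Prelude.Def_EtGlue
import Groth.Agent.EtGlue7.Basic
import Groth.Agent.EtGlue7.Flat

/-!
# Beauville–Laszlo glueing

A fibre product `M` of an `R'`-module `M'` and a module `M₁` on which `f` is bijective, over `R' ⊗ M₁`,
is glueable and has base changes `M'` and `M₁`.
-/

noncomputable section

namespace Groth.Agent.EtGlue7

universe u

open TensorProduct

variable {R R' : Type u} [CommRing R] [CommRing R'] [Algebra R R'] {f : R}

/-- Fibre product data: `M ≅ {(x, y) | β x = 1 ⊗ y}`. -/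
structure GlueData (R R' : Type u) [CommRing R] [CommRing R'] [Algebra R R'] (f : R)
    (M M' M₁ : Type u) [AddCommGroup M] [Module R M] [AddCommGroup M'] [Module R M'] [Module R' M']
    [AddCommGroup M₁] [Module R M₁] where
  /-- The projection to `M'`. -/
  p : M →ₗ[R] M'
  /-- The projection to `M₁`. -/
  q : M →ₗ[R] M₁
  /-- The structure map `M' → R' ⊗ M₁`. -/
  β : M' →ₗ[R] R' ⊗[R] M₁
  β_smul : ∀ (r : R') (x : M'), β (r • x) = r • β x
  comm : ∀ m, β (p m) = (1 : R') ⊗ₜ[R] q m
  inj : ∀ m, p m = 0 → q m = 0 → m = 0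
  lift : ∀ x y, β x = (1 : R') ⊗ₜ[R] y → ∃ m, p m = x ∧ q m = y
  bij : Function.Bijective fun y : M₁ => f • y
  ker : ∀ x, β x = 0 → ∃ n : ℕ, f ^ n • x = 0
  surj : ∀ y : M₁, ∃ (n : ℕ) (x : M'), β x = (1 : R') ⊗ₜ[R] (f ^ n • y)

namespace GlueData

variable {M M' M₁ : Type u} [AddCommGroup M] [Module R M] [AddCommGroup M'] [Module R M'] [Module R' M']
    [IsScalarTower R R' M'] [AddCommGroup M₁] [Module R M₁] (D : GlueData R R' f M M' M₁)

omit [IsScalarTower R R' M'] in
theorem bij_pow (D : GlueData R R' f M M' M₁) (n : ℕ) : Function.Bijective fun y : M₁ => f ^ n • y := by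
  induction n with
  | zero =>
    simp only [pow_zero, one_smul]
    exact Function.bijective_id
  | succ n ih =>
    have : (fun y : M₁ => f ^ (n + 1) • y) = (fun y : M₁ => f ^ n • y) ∘ fun y => f • y :=
      funext fun y => by simp [pow_succ, mul_smul]
    rw [this]; exact ih.comp D.bij

theorem isLocalizedModule : IsLocalizedModule (Submonoid.powers f) D.q where
  map_units := by
    rintro ⟨_, n, rfl⟩
    exact (Module.End.isUnit_iff _).mpr (D.bij_pow n)
  surj y := by
    obtain ⟨n, x, hx⟩ := D.surj y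
    obtain ⟨m, -, hm⟩ := D.lift x _ hx
    exact ⟨⟨m, ⟨f ^ n, n, rfl⟩⟩, hm.symm⟩
  exists_of_eq {m m'} h := by
    obtain ⟨n, hn⟩ := D.ker (D.p (m - m')) (by rw [D.comm, map_sub, h, sub_self, tmul_zero])
    refine ⟨⟨f ^ n, n, rfl⟩, sub_eq_zero.mp (D.inj _ ?_ ?_)⟩
    · show D.p (f ^ n • m - f ^ n • m') = 0
      rw [← smul_sub, map_smul]; exact hn
    · show D.q (f ^ n • m - f ^ n • m') = 0
      rw [← smul_sub, map_smul, map_sub, h, sub_self, smul_zero]

/-- The comparison map `R' ⊗ M → M'`. -/
def toTensor : R' ⊗[R] M →ₗ[R'] M' := D.p.liftBaseChange R'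

theorem toTensor_one_tmul (m : M) : D.toTensor ((1 : R') ⊗ₜ[R] m) = D.p m := by simp [toTensor]

theorem beta_toTensor (t : R' ⊗[R] M) : D.β (D.toTensor t) = D.q.lTensor R' t := by
  induction t with
  | zero => simp
  | tmul r m => simp [toTensor, D.β_smul, D.comm, TensorProduct.smul_tmul']
  | add a b ha hb => simp only [map_add, ha, hb]

theorem exists_torsion_of_lTensor_eq_zero (t : R' ⊗[R] M) (ht : D.q.lTensor R' t = 0) :
    ∃ n : ℕ, f ^ n • t = 0 := by
  have := D.isLocalizedModule
  let e := IsLocalizedModule.linearEquiv (Submonoid.powers f) D.q (TensorProduct.mk R (Localization.Away f) M 1)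
  have he : e.toLinearMap ∘ₗ D.q = TensorProduct.mk R (Localization.Away f) M 1 :=
    LinearMap.ext fun m => IsLocalizedModule.linearEquiv_apply _ _ _ m
  have h := congrArg (e.toLinearMap.lTensor R') ht
  rw [map_zero, ← LinearMap.lTensor_comp_apply, he] at h
  have h' := congrArg (TensorProduct.leftComm R R' (Localization.Away f) M) h
  rw [leftComm_lTensor_mk, map_zero] at h'
  exact (exists_pow_smul_eq_zero_iff_away t).mpr h'

theorem bijective_toTensor (h : EtGlue.IsGlueingPair R R' f) : Function.Bijective D.toTensor := by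
  refine ⟨?_, fun x => ?_⟩
  · rw [injective_iff_map_eq_zero]
    intro t ht
    obtain ⟨m, ⟨n, hn⟩, rfl⟩ := exists_torsion_lift M h t
      (D.exists_torsion_of_lTensor_eq_zero t (by rw [← D.beta_toTensor, ht, map_zero]))
    rw [toTensor_one_tmul] at ht
    rw [D.inj m ht ((D.bij_pow n).1 (by simp only [← map_smul, hn, map_zero, smul_zero])), tmul_zero]
  · have key : ∀ y : R' ⊗[R] M₁, ∃ (t : R' ⊗[R] M) (z : M₁), y - D.β (D.toTensor t) = (1 : R') ⊗ₜ[R] z := by
      intro y
      induction y with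
      | zero => exact ⟨0, 0, by simp⟩
      | tmul r w =>
        obtain ⟨n, x', hx'⟩ := D.surj w
        obtain ⟨m, -, hm⟩ := D.lift x' _ hx'
        obtain ⟨a, b, rfl⟩ := exists_sub_mem h.1 n r
        refine ⟨b ⊗ₜ m, a • w, ?_⟩
        rw [beta_toTensor, LinearMap.lTensor_tmul, hm, add_tmul, tmul_smul, TensorProduct.smul_tmul',
          Algebra.smul_def, map_pow, add_sub_cancel_right, tmul_smul, TensorProduct.smul_tmul',
          Algebra.algebraMap_eq_smul_one]
      | add u v hu hv =>
        obtain ⟨t, z, e⟩ := hu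
        obtain ⟨t', z', e'⟩ := hv
        exact ⟨t + t', z + z', by rw [map_add, map_add, tmul_add, ← e, ← e']; abel⟩
    obtain ⟨t, z, e⟩ := key (D.β x)
    obtain ⟨m, hm, -⟩ := D.lift (x - D.toTensor t) z (by rw [map_sub]; exact e)
    exact ⟨t + (1 : R') ⊗ₜ[R] m, by rw [map_add, toTensor_one_tmul, hm]; abel⟩

/-- `R' ⊗ M ≅ M'`. -/
def equivTensor (h : EtGlue.IsGlueingPair R R' f) : R' ⊗[R] M ≃ₗ[R'] M' :=
  LinearEquiv.ofBijective D.toTensor (D.bijective_toTensor h)

theorem isGlueable (D : GlueData R R' f M M' M₁) (h : EtGlue.IsGlueingPair R R' f) : EtGlue.IsGlueable R R' f M :=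
  isGlueable_of_torsion h.1 M (fun m ⟨n, hn⟩ hm => D.inj m (by rw [← toTensor_one_tmul, hm, map_zero])
    ((D.bij_pow n).1 (by simp only [← map_smul, hn, map_zero, smul_zero]))) (exists_torsion_lift M h)

end GlueData

end Groth.Agent.EtGlue7

namespace Groth.Agent.EtGlue7

universe u

open TensorProduct

variable {R R' : Type u} [CommRing R] [CommRing R'] [Algebra R R'] {f : R}

theorem beauville_laszlo (hRR : EtGlue.IsGlueingPair R R' f) (M' : Type u) [AddCommGroup M'] [Module R' M']
    (M₁ : Type u) [AddCommGroup M₁] [Module R M₁] (hf : Function.Bijective fun x : M₁ => f • x)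
    (α : LocalizedModule (Submonoid.powers (algebraMap R R' f)) M' ≃ₗ[R'] R' ⊗[R] M₁) :
    ∃ (M : Type u) (_ : AddCommGroup M) (_ : Module R M) (_ : EtGlue.IsGlueable R R' f M)
      (e' : R' ⊗[R] M ≃ₗ[R'] M') (e₁ : LocalizedModule (Submonoid.powers f) M ≃ₗ[R] M₁),
      ∀ m : M, α (LocalizedModule.mkLinearMap (Submonoid.powers (algebraMap R R' f)) M' (e' ((1 : R') ⊗ₜ[R] m))) =
        (1 : R') ⊗ₜ[R] e₁ (LocalizedModule.mkLinearMap (Submonoid.powers f) M m) := by
  let : Module R M' := Module.compHom M' (algebraMap R R')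
  have : IsScalarTower R R' M' := ⟨fun a b x => by
    rw [Algebra.smul_def, mul_smul]
    rfl⟩
  let γ := α.toLinearMap ∘ₗ LocalizedModule.mkLinearMap (Submonoid.powers (algebraMap R R' f)) M'
  let β : M' →ₗ[R] R' ⊗[R] M₁ :=
    { toFun := γ
      map_add' := map_add γ
      map_smul' := fun r x => by
        rw [RingHom.id_apply, ← algebraMap_smul R' r x, map_smul, algebraMap_smul] }
  let N : Submodule R (M' × M₁) :=
    LinearMap.eqLocus (β ∘ₗ LinearMap.fst R M' M₁) (TensorProduct.mk R R' M₁ 1 ∘ₗ LinearMap.snd R M' M₁)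
  let D : GlueData R R' f N M' M₁ :=
    { p := LinearMap.fst R M' M₁ ∘ₗ N.subtype
      q := LinearMap.snd R M' M₁ ∘ₗ N.subtype
      β := β
      β_smul := fun r x => map_smul γ r x
      comm := fun m => m.2
      inj := fun m h1 h2 => Subtype.ext (Prod.ext h1 h2)
      lift := fun x y h => ⟨⟨(x, y), h⟩, rfl, rfl⟩
      bij := hf
      ker := fun x hx => by
        have hx' : α (LocalizedModule.mkLinearMap (Submonoid.powers (algebraMap R R' f)) M' x) = 0 := hx
        obtain ⟨⟨_, n, rfl⟩, hn⟩ := (IsLocalizedModule.eq_zero_iff (Submonoid.powers (algebraMap R R' f))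
          (LocalizedModule.mkLinearMap (Submonoid.powers (algebraMap R R' f)) M')).mp (α.map_eq_zero_iff.mp hx')
        refine ⟨n, ?_⟩
        rw [← algebraMap_smul R' (f ^ n) x, map_pow]
        exact hn
      surj := fun y => by
        obtain ⟨⟨x, ⟨_, n, rfl⟩⟩, h⟩ := IsLocalizedModule.surj (Submonoid.powers (algebraMap R R' f))
          (LocalizedModule.mkLinearMap (Submonoid.powers (algebraMap R R' f)) M') (α.symm ((1 : R') ⊗ₜ[R] y))
        refine ⟨n, x, ?_⟩
        show α _ = _
        rw [← h, Submonoid.smul_def, map_smul, LinearEquiv.apply_symm_apply, tmul_smul]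
        show algebraMap R R' f ^ n • _ = _
        rw [← map_pow, algebraMap_smul] }
  have := D.isLocalizedModule
  refine ⟨N, inferInstance, inferInstance, D.isGlueable hRR, D.equivTensor hRR,
    IsLocalizedModule.iso (Submonoid.powers f) D.q, fun m => ?_⟩
  show β (D.toTensor _) = _
  rw [D.toTensor_one_tmul, D.comm]
  congr 1
  exact (IsLocalizedModule.iso_mk_one (Submonoid.powers f) D.q m).symm

theorem exists_glueable_algebra (hRR' : EtGlue.IsGlueingPair R R' f) (A₁ : Type u) [CommRing A₁] [Algebra R A₁]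
    (h₁ : IsUnit (algebraMap R A₁ f)) (A' : Type u) [CommRing A'] [Algebra R A'] [Algebra R' A']
    [IsScalarTower R R' A'] (φ : Localization.Away (algebraMap R A' f) ≃ₐ[R'] R' ⊗[R] A₁) :
    ∃ (A : Type u) (_ : CommRing A) (_ : Algebra R A) (_ : EtGlue.IsGlueable R R' f A)
      (e₁ : Localization.Away (algebraMap R A f) ≃ₐ[R] A₁) (e' : R' ⊗[R] A ≃ₐ[R'] A'),
      ∀ a : A, φ (algebraMap A' (Localization.Away (algebraMap R A' f)) (e' ((1 : R') ⊗ₜ[R] a))) =
        (1 : R') ⊗ₜ[R] e₁ (algebraMap A (Localization.Away (algebraMap R A f)) a) := by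
  let γ : A' →ₐ[R'] R' ⊗[R] A₁ := φ.toAlgHom.comp (IsScalarTower.toAlgHom R' A' _)
  let A := AlgHom.equalizer ((γ.restrictScalars R).comp (AlgHom.fst R A' A₁))
    (Algebra.TensorProduct.includeRight.comp (AlgHom.snd R A' A₁))
  let p : A →ₐ[R] A' := (AlgHom.fst R A' A₁).comp A.val
  let q : A →ₐ[R] A₁ := (AlgHom.snd R A' A₁).comp A.val
  let D : GlueData R R' f A A' A₁ :=
    { p := p.toLinearMap
      q := q.toLinearMap
      β := (γ.restrictScalars R).toLinearMap
      β_smul := fun r x => map_smul γ r x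
      comm := fun m => m.2
      inj := fun m h1 h2 => Subtype.ext (Prod.ext h1 h2)
      lift := fun x y h => ⟨⟨(x, y), h⟩, rfl, rfl⟩
      bij := by
        simp_rw [Algebra.smul_def]
        exact ⟨fun a b h => IsUnit.mul_left_cancel h₁ h, fun y => ⟨↑(IsUnit.unit h₁)⁻¹ * y, by
          show algebraMap R A₁ f * _ = y
          rw [← mul_assoc, IsUnit.mul_val_inv, one_mul]⟩⟩
      ker := fun x hx => by
        have hx' : φ (algebraMap A' (Localization.Away (algebraMap R A' f)) x) = 0 := hx
        obtain ⟨⟨_, n, rfl⟩, hn⟩ :=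
          (IsLocalization.map_eq_zero_iff (Submonoid.powers (algebraMap R A' f)) _ x).mp
            ((map_eq_zero_iff φ φ.injective).mp hx')
        exact ⟨n, by rw [Algebra.smul_def, map_pow]; exact hn⟩
      surj := fun y => by
        obtain ⟨⟨x, ⟨_, n, rfl⟩⟩, h⟩ := IsLocalization.surj (Submonoid.powers (algebraMap R A' f))
          (φ.symm ((1 : R') ⊗ₜ[R] y))
        refine ⟨n, x, ?_⟩
        have hc : φ (algebraMap R (Localization.Away (algebraMap R A' f)) (f ^ n)) = algebraMap R (R' ⊗[R] A₁) (f ^ n) := by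
          rw [IsScalarTower.algebraMap_apply R R' (Localization.Away (algebraMap R A' f)), φ.commutes,
            ← IsScalarTower.algebraMap_apply]
        show φ (algebraMap A' (Localization.Away (algebraMap R A' f)) x) = _
        rw [← h, map_mul, φ.apply_symm_apply, tmul_smul, Algebra.smul_def, mul_comm, ← hc]
        show φ (algebraMap A' _ (algebraMap R A' f ^ n)) * _ = _
        rw [← map_pow, ← IsScalarTower.algebraMap_apply R A'] }
  have hloc := D.isLocalizedModule
  let : Algebra A A₁ := q.toRingHom.toAlgebra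
  have : IsScalarTower R A A₁ := .of_algebraMap_eq fun r => (q.commutes r).symm
  have : IsLocalization (Algebra.algebraMapSubmonoid A (Submonoid.powers f)) A₁ :=
    isLocalizedModule_iff_isLocalization.mp hloc
  have : IsLocalization.Away (algebraMap R A f) A₁ := by
    rwa [show Algebra.algebraMapSubmonoid A (Submonoid.powers f) = Submonoid.powers (algebraMap R A f) from
      Submonoid.map_powers (algebraMap R A) f] at this
  let e₁ := IsLocalization.algEquiv (Submonoid.powers (algebraMap R A f)) (Localization.Away (algebraMap R A f)) A₁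
  let Ψ : R' ⊗[R] A →ₐ[R'] A' :=
    Algebra.TensorProduct.lift (Algebra.ofId R' A') p fun _ _ => Commute.all _ _
  have hΨ : ∀ t, Ψ t = D.toTensor t := fun t => by
    induction t with
    | zero => simp
    | tmul r a => simp [Ψ, D, GlueData.toTensor, Algebra.smul_def]
    | add a b ha hb => simp only [map_add, ha, hb]
  refine ⟨A, inferInstance, inferInstance, D.isGlueable hRR', e₁.restrictScalars R,
    AlgEquiv.ofBijective Ψ (by rw [show ⇑Ψ = D.toTensor from funext hΨ]; exact D.bijective_toTensor hRR'),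
    fun a => ?_⟩
  show γ (Ψ ((1 : R') ⊗ₜ[R] a)) = (1 : R') ⊗ₜ[R] e₁ (algebraMap A (Localization.Away (algebraMap R A f)) a)
  rw [hΨ, D.toTensor_one_tmul, e₁.commutes]
  exact D.comm a

end Groth.Agent.EtGlue7
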